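import Cfsg.Agent.OddLocal.PLengthBasic

/-!
# An arithmetical lemma and a lemma on coprime elements centralising a Sylow subgroup
-/

set_option autoImplicit false
set_option linter.unusedSectionVars false
set_option linter.style.haveILetI false

namespace Cfsg.Lib.GW

open Subgroup

universe u

/-- Two divisors of a small odd divisor of `p ± 1` with product `1` modulo `p` are trivial. -/
theorem mul_eq_one_of_dvd {p ρ X Y : ℕ} (hpodd : Odd p) (hρ : Odd ρ) (h2 : 2 * ρ ≤ p + 1)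
    (hdvd : ρ ∣ p - 1 ∨ ρ ∣ p + 1) (hX : X ∣ ρ) (hY : Y ∣ ρ) (hXY : X * Y % p = 1) : X * Y = 1 := by
  wlog hle : Y ≤ X generalizing X Y
  · rw [mul_comm]
    exact this hY hX (by rw [mul_comm]; exact hXY) (le_of_not_ge hle)
  have hXo := hρ.of_dvd_nat hX
  have hYo := hρ.of_dvd_nat hY
  by_contra hne
  have hX1 : 1 < X := by
    rcases Nat.lt_or_ge 1 X with h | h
    · exact h
    · exfalso
      obtain ⟨a, ha⟩ := hXo
      obtain ⟨c, hc⟩ := hYo
      exact hne (by rw [show X = 1 by omega, show Y = 1 by omega])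
  have hp2 : 2 ≤ p := by
    have := Nat.le_of_dvd (by obtain ⟨a, ha⟩ := hρ; omega) hX
    omega
  have hXp : 2 * X ≤ p + 1 := le_trans (by have := Nat.le_of_dvd (by obtain ⟨a, ha⟩ := hρ; omega) hX; omega) h2
  obtain ⟨r, hr⟩ : ∃ r, X * Y = p * r + 1 := ⟨X * Y / p, by have := Nat.div_add_mod (X * Y) p; omega⟩
  have hr0 : 1 ≤ r := by
    rcases Nat.eq_zero_or_pos r with rfl | h
    · exact absurd (by simpa using hr) hne
    · exact h
  have hle2 : p * r + 1 ≤ X * X := hr ▸ Nat.mul_le_mul_left X hle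
  obtain ⟨l, hl⟩ := hpodd
  have hcop : Nat.Coprime 2 X := Nat.coprime_two_left.2 hXo
  rcases hdvd with h | h
  · obtain ⟨m, hm⟩ : 2 * X ∣ p - 1 := hcop.mul_dvd_of_dvd_of_dvd ⟨l, by omega⟩ (hX.trans h)
    have hp : p = 2 * X * m + 1 := by omega
    have h1 : X ∣ r + 1 := by
      have h3 : X ∣ p * r + 1 := ⟨Y, hr.symm⟩
      rw [hp, show (2 * X * m + 1) * r + 1 = X * (2 * m * r) + (r + 1) by ring] at h3
      exact (Nat.dvd_add_right (Dvd.intro _ rfl)).1 h3
    have h4 : X ≤ r + 1 := Nat.le_of_dvd (by omega) h1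
    have hm1 : 1 ≤ m := by
      rcases Nat.eq_zero_or_pos m with rfl | h'
      · rw [mul_zero] at hp; omega
      · exact h'
    obtain ⟨k, rfl⟩ : ∃ k, X = k + 2 := ⟨X - 2, by omega⟩
    have h5 : (2 * (k + 2) + 1) * (k + 1) ≤ p * r := Nat.mul_le_mul (by rw [hp]; nlinarith) (by omega)
    nlinarith
  · obtain ⟨m, hm⟩ : 2 * X ∣ p + 1 := hcop.mul_dvd_of_dvd_of_dvd ⟨l + 1, by omega⟩ (hX.trans h)
    rcases Nat.eq_or_lt_of_le hr0 with h1 | h1
    · have hodd : Odd (X * Y) := hXo.mul hYo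
      rw [hr, ← h1, mul_one, hl] at hodd
      exact (Nat.not_odd_iff_even.2 ⟨l + 1, by ring⟩) hodd
    · have h3 : X ∣ r - 1 := by
        refine Int.natCast_dvd_natCast.1 ?_
        refine ⟨2 * m * r - Y, ?_⟩
        have e1 : (X : ℤ) * Y = p * r + 1 := by exact_mod_cast hr
        have e2 : (p : ℤ) + 1 = 2 * X * m := by exact_mod_cast hm
        push_cast [Nat.cast_sub hr0]
        linear_combination e1 + (r : ℤ) * e2
      have h4 := Nat.le_of_dvd (by omega) h3
      have h5 : (2 * X - 1) * (X + 1) ≤ p * r := Nat.mul_le_mul (by omega) (by omega)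
      obtain ⟨k, rfl⟩ : ∃ k, X = k + 2 := ⟨X - 2, by omega⟩
      rw [show 2 * (k + 2) - 1 = 2 * k + 3 by omega] at h5
      nlinarith

/-- In a solvable group a `p'`-element centralising a Sylow `p`-subgroup is in the `p'`-core. -/
theorem mem_pPrimeCore_of_centralizes {M : Type u} [Group M] [Finite M] [Group.IsSolvable M] {p : ℕ}
    [Fact p.Prime] (P : Sylow p M) {x : M} (hx : ∀ y ∈ (P : Subgroup M), Commute x y)
    (hxp : (orderOf x).Coprime p) : x ∈ Cfsg.pPrimeCore p M := by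
  set π := QuotientGroup.mk' (Cfsg.pPrimeCore p M)
  have hQ := Cfsg.Lib.Components.isPGroup_pCore (G := M ⧸ Cfsg.pPrimeCore p M) p
  have hle : Cfsg.pCore p (M ⧸ Cfsg.pPrimeCore p M) ≤
      (P.mapSurjective (QuotientGroup.mk'_surjective (Cfsg.pPrimeCore p M)) : Subgroup _) :=
    Cfsg.Lib.Thompson.le_sylow_of_normal hQ _
  have h1 : π x ∈ centralizer (Cfsg.pCore p (M ⧸ Cfsg.pPrimeCore p M) : Set _) := by
    refine mem_centralizer_iff.2 fun q hq => ?_
    obtain ⟨y, hy, rfl⟩ := hle hq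
    exact ((hx y hy).map π).eq.symm
  obtain ⟨k, hk⟩ := IsPGroup.iff_orderOf.1 hQ ⟨_, Cfsg.Lib.OddP.charP_quotient_pPrimeCore h1⟩
  rw [Subgroup.orderOf_mk] at hk
  have h2 : orderOf (π x) = 1 :=
    Nat.eq_one_of_dvd_coprimes (hxp.pow_right k) (orderOf_map_dvd π x) (dvd_of_eq hk)
  exact (QuotientGroup.eq_one_iff x).1 (orderOf_eq_one_iff.1 h2)

end Cfsg.Lib.GW
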