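import Cfsg.Agent.FourGroupGW.Inverted.Kernel
import Cfsg.Agent.FourGroupGW.Inverted.Arith
import Cfsg.Agent.FourGroupGW.Proper
import Cfsg.Agent.FourGroupGW.MaxCent.Reduce
import Cfsg.Agent.FourGroupGW.LocalLc

/-!
# The centralisers of the special elements lie in `C(t)`
-/

set_option autoImplicit false
set_option linter.unusedSectionVars false
set_option linter.style.haveILetI false

namespace Cfsg.Lib.GW

open Subgroup Matrix

universe u

variable {G : Type u} [Group G] [Finite G]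

namespace Frame

variable {F : Frame G}

theorem normalizer_zpowers_ne_top (hm : Minimal G) {x : G} (hx : x ∈ F.O) (hx1 : x ≠ 1) :
    normalizer ((zpowers x : Subgroup G) : Set G) ≠ ⊤ := by
  intro h
  haveI : IsSimpleGroup G := hm.simple
  haveI : (zpowers x).Normal := normalizer_eq_top_iff.1 h
  rcases (inferInstance : (zpowers x).Normal).eq_bot_or_eq_top with h' | h'
  · exact hx1 (zpowers_eq_bot.1 h')
  · have ht : F.t ∈ zpowers x := h' ▸ mem_top _
    have hto := F.O.zpowers_le.2 hx ht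
    have := Frame.odd_orderOf F.odd_card_O hto
    rw [F.t_order] at this
    exact absurd this (by decide)

theorem centralizer_le_normalizer_zpowers {x c : G} (hc : Commute c x) :
    c ∈ normalizer ((zpowers x : Subgroup G) : Set G) :=
  centralizer_le_normalizer _ (mem_centralizer_iff.2 fun w hw => by
    obtain ⟨i, rfl⟩ := mem_zpowers_iff.1 hw
    exact (hc.zpow_right i).eq.symm)

theorem u_mem_normalizer_zpowers {x : G} (hu : F.u * x * F.u⁻¹ = x⁻¹) :
    F.u ∈ normalizer ((zpowers x : Subgroup G) : Set G) := by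
  have key : ∀ w ∈ zpowers x, F.u * w * F.u⁻¹ ∈ zpowers x := fun w hw => by
    obtain ⟨i, rfl⟩ := mem_zpowers_iff.1 hw
    rw [← conj_zpow, hu]
    exact (zpowers x).zpow_mem ((zpowers x).inv_mem (mem_zpowers x)) i
  exact Cfsg.Lib.Coprime.mem_normalizer_of_conj_mem key fun w hw => by
    simpa [F.u_inv] using key w hw

end Frame

namespace Inverted

variable {F : Frame G} {p : ℕ} {Y : Subgroup G} {b d z y : G} (D : Inverted F p Y b d z y)
include D

/-- A non-trivial element of `Z₀` has its centraliser in `C(t)`. -/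
theorem cent_centre (hm : Minimal G) (hmax : IsCoatom F.C) {a : G} (ha : a ∈ D.heis.centre) (ha1 : a ≠ 1)
    {c : G} (hc : Commute c a) : c * F.t = F.t * c := by
  have haO := (D.mem_centre.1 ha).1
  have hle : F.C ≤ normalizer ((zpowers a : Subgroup G) : Set G) := by
    rw [F.C_eq hm]
    refine sup_le (fun o ho => Frame.centralizer_le_normalizer_zpowers (D.centre_comm ha ho)) (F.U_le_iff.2 ?_)
    exact ⟨Frame.centralizer_le_normalizer_zpowers (F.mem_C.1 (F.O_le haO)).symm,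
      Frame.u_mem_normalizer_zpowers (D.centre_inv ha)⟩
  rcases hle.eq_or_lt with h | h
  · exact F.mem_C.1 (h.ge (Frame.centralizer_le_normalizer_zpowers hc))
  · exact absurd (hmax.2 _ h) (Frame.normalizer_zpowers_ne_top hm haO ha1)

theorem cent_z (hm : Minimal G) (hmax : IsCoatom F.C) {c : G} (hc : Commute c z) : c * F.t = F.t * c :=
  D.cent_centre hm hmax D.z_mem_centre D.heis.z1 hc

theorem hyp_rot : Nat.card F.O = D.heis.ker.relIndex F.O * Nat.card D.heis.ker ∧
    Odd (D.heis.ker.relIndex F.O) ∧ 1 < D.heis.ker.relIndex F.O ∧ 2 * D.heis.ker.relIndex F.O ≤ p + 1 ∧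
      (D.heis.ker.relIndex F.O ∣ p - 1 ∨ D.heis.ker.relIndex F.O ∣ p + 1) ∧
      (∃ r ∈ F.O, ∀ o ∈ F.O, ∃ i : ℕ, (r ^ i)⁻¹ * o ∈ D.heis.ker) ∧
      ∀ A : Subgroup G, A ≤ F.O → A ⊓ D.heis.ker = ⊥ → Nat.card A ∣ D.heis.ker.relIndex F.O :=
  D.heis.rotation D.W_eq D.yO D.hc D.he D.yp D.ymove

theorem p_odd : Odd p := D.heis.hp.odd_of_ne_two D.heis.p2

theorem rel_coprime : ¬ p ∣ D.heis.ker.relIndex F.O := fun h => by
  obtain ⟨-, -, h1, h2, -⟩ := D.hyp_rot
  have := Nat.le_of_dvd (by omega) h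
  omega

/-- The elements of a `q`-group centralised by `g` and by another involution of `U` embed in `O / K`. -/
theorem side_card (hm : Minimal G) (hmax : IsCoatom F.C) {g : G} (hg : g ∈ F.O) (hgK : g ∉ D.heis.ker)
    {q : ℕ} [Fact q.Prime] (hqp : q ≠ p) {Q : Subgroup G} (hQ : IsPGroup q Q)
    (hQg : ∀ x ∈ Q, Commute x g) (hQo : Odd (Nat.card Q)) {τ : G} (hτ : τ ∈ normalizer (F.W : Set G))
    (hts : τ * F.t * τ⁻¹ = F.u ∨ τ * F.t * τ⁻¹ = F.t * F.u) :
    Nat.card ↥(Q ⊓ centralizer {τ * F.t * τ⁻¹}) ∣ D.heis.ker.relIndex F.O := by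
  set s := τ * F.t * τ⁻¹ with hs
  set A := Q ⊓ centralizer {s}
  set A' : Subgroup G := A.map (MulAut.conj τ⁻¹).toMonoidHom
  have hA'O : A' ≤ F.O := by
    rintro _ ⟨a, ⟨haQ, has⟩, rfl⟩
    refine (F.mem_O hm).2 ⟨?_, ?_⟩
    · have h := (show Commute a s from mem_centralizer_singleton_iff.1 has).map (MulAut.conj τ⁻¹).toMonoidHom
      simpa [hs, mul_assoc] using h.eq
    · exact (MulEquiv.orderOf_eq (MulAut.conj τ⁻¹) a).symm ▸ Frame.odd_orderOf hQo haQ
  have hA'K : A' ⊓ D.heis.ker = ⊥ := by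
    refine eq_bot_iff.2 fun x hx => mem_bot.2 ?_
    obtain ⟨⟨a, ⟨haQ, has⟩, rfl⟩, hxK⟩ := mem_inf.1 hx
    rw [MulEquiv.coe_toMonoidHom] at hxK ⊢
    obtain ⟨n, hn⟩ := IsPGroup.iff_orderOf.1 hQ ⟨a, haQ⟩
    rw [Subgroup.orderOf_mk] at hn
    suffices ha1 : a = 1 by rw [ha1, map_one]
    by_contra ha1
    have hcen : MulAut.conj τ⁻¹ a ∈ D.heis.centre := D.mem_centre_of_coprime hxK (by
      rw [MulEquiv.orderOf_eq, hn]
      exact fun h => hqp ((Nat.prime_dvd_prime_iff_eq D.heis.hp Fact.out).1 (D.heis.hp.dvd_of_dvd_pow h)).symm)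
    have h1 : Commute a (τ * b * τ⁻¹) := by
      have h := ((D.mem_centre.1 hcen).2 b D.heis.bY).map (MulAut.conj τ).toMonoidHom
      simpa [mul_assoc] using h
    -- `a` centralises `b`
    have hab : Commute a b := by
      have hmem : τ * b * τ⁻¹ ∈ zpowers b := D.W_eq ▸ (mem_normalizer_iff.1 hτ b).1 D.heis.b_mem_W
      have hb' : b ∈ zpowers (τ * b * τ⁻¹) :=
        mem_zpowers_of_mem_cyclic D.heis.hp hmem (mem_zpowers b)
          (by rw [conj_pow, D.heis.exp b D.heis.bY, mul_one, mul_inv_cancel]) (D.heis.exp b D.heis.bY)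
          (fun h => D.heis.b1 (conj_eq_one_iff.1 h))
      obtain ⟨i, hi⟩ := mem_zpowers_iff.1 hb'
      exact hi ▸ h1.zpow_right i
    -- and `z`
    have hgbY := D.heis.mem_Y_conj (F.O_le hg) D.heis.bY
    obtain ⟨i, j, k, hv⟩ := D.heis.span _ hgbY
    have hag : Commute a g := hQg a haQ
    have hj : (j : ZMod p) ≠ 0 := by
      have h := (D.heis.entries_of_not_mem D.W_eq D.yO D.hc D.he hg hgK).2
      have e : D.heis.mat g 1 0 = co Y p b d z (g * b * g⁻¹) 1 := rfl
      rwa [e, hv, D.heis.co_nf] at h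
    have haz : Commute a (z ^ j) := by
      have hav : Commute a (g * b * g⁻¹) := (hag.mul_right hab).mul_right hag.inv_right
      have e : b * (g * b * g⁻¹) * b⁻¹ * (g * b * g⁻¹)⁻¹ = z ^ j := by
        have h := D.heis.nf_conj_b i j k
        rw [← hv] at h
        calc b * (g * b * g⁻¹) * b⁻¹ * (g * b * g⁻¹)⁻¹ = b * (g * b * g⁻¹ * b * (g * b * g⁻¹)⁻¹)⁻¹ := by group
          _ = b * ((z ^ j)⁻¹ * b)⁻¹ := by rw [h]
          _ = z ^ j := by group
      rw [← e]
      exact ((hab.mul_right hav).mul_right hab.inv_right).mul_right hav.inv_right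
    have hzj : z ∈ zpowers (z ^ j) := mem_zpowers_of_mem_cyclic D.heis.hp (pow_mem (mem_zpowers z) j)
      (mem_zpowers z) (by rw [← pow_mul, mul_comm, pow_mul, D.heis.exp z D.heis.zY, one_pow])
      (D.heis.exp z D.heis.zY) (fun h => hj (D.heis.zpow_eq_one.1 h))
    obtain ⟨l, hl⟩ := mem_zpowers_iff.1 hzj
    have hat : a * F.t = F.t * a := D.cent_z hm hmax (hl ▸ haz.zpow_right l)
    have haU : a ∈ centralizer (F.U : Set G) := by
      refine F.mem_centralizer_U.2 ⟨hat, ?_⟩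
      have has' : Commute a s := mem_centralizer_singleton_iff.1 has
      rcases hts with e | e
      · rw [e] at hs; exact (hs ▸ has' : Commute a F.u).eq
      · rw [e] at hs
        have h := (show Commute a F.t from hat).mul_right (hs ▸ has' : Commute a (F.t * F.u))
        rw [← mul_assoc, F.t_sq, one_mul] at h
        exact h.eq
    have haW : a ∈ zpowers b := D.W_eq ▸ (F.mem_W_iff hm).2 ⟨haU, Frame.odd_orderOf hQo haQ⟩
    have hdiv := orderOf_dvd_of_mem_zpowers haW
    rw [D.heis.orderOf_b, hn] at hdiv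
    rcases n with _ | n
    · exact ha1 (orderOf_eq_one_iff.1 (by rw [hn, pow_zero]))
    · exact hqp ((Nat.prime_dvd_prime_iff_eq Fact.out D.heis.hp).1 ((dvd_pow_self q n.succ_ne_zero).trans hdiv))
  obtain ⟨-, -, -, -, -, -, hemb⟩ := D.hyp_rot
  have h := hemb A' hA'O hA'K
  rwa [Nat.card_congr (A.equivMapOfInjective _ (MulAut.conj τ⁻¹).injective).toEquiv.symm] at h

/-- A `q`-subgroup centralised by `g` and normalised by `U` and `z` is centralised by `t`. -/
theorem qgroup_le (hm : Minimal G) (hmax : IsCoatom F.C) {g : G} (hg : g ∈ F.O) (hgK : g ∉ D.heis.ker)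
    {q : ℕ} [Fact q.Prime] (hqp : q ≠ p) {Q : Subgroup G} (hQ : IsPGroup q Q) (hQo : Odd (Nat.card Q))
    (hQg : ∀ x ∈ Q, Commute x g) (hQU : F.U ≤ normalizer (Q : Set G)) (hQz : z ∈ normalizer (Q : Set G)) :
    Q ≤ centralizer {F.t} := by
  haveI : Fact p.Prime := ⟨D.heis.hp⟩
  have hσ := F.σ_mem_normalizer_W hm
  have hσσ : F.σ * F.σ * F.t * (F.σ * F.σ)⁻¹ = F.t * F.u := by
    rw [show F.σ * F.σ * F.t * (F.σ * F.σ)⁻¹ = F.σ * (F.σ * F.t * F.σ⁻¹) * F.σ⁻¹ by group, F.σ_t, F.σ_u]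
  have h1 := D.side_card hm hmax hg hgK hqp hQ hQg hQo hσ (Or.inl F.σ_t)
  have h2 := D.side_card hm hmax hg hgK hqp hQ hQg hQo (mul_mem hσ hσ) (Or.inr hσσ)
  rw [F.σ_t] at h1
  rw [hσσ] at h2
  -- nothing in `Q` is centralised by `U`
  have hQW : ∀ x ∈ Q, x ∈ centralizer (F.U : Set G) → x = 1 := by
    intro x hx hxU
    have hxW : x ∈ zpowers b := D.W_eq ▸ (F.mem_W_iff hm).2 ⟨hxU, Frame.odd_orderOf hQo hx⟩
    have hd := orderOf_dvd_of_mem_zpowers hxW
    obtain ⟨n, hn⟩ := IsPGroup.iff_orderOf.1 hQ ⟨x, hx⟩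
    rw [Subgroup.orderOf_mk] at hn
    rw [D.heis.orderOf_b, hn] at hd
    rcases n with _ | n
    · exact orderOf_eq_one_iff.1 (by rw [hn, pow_zero])
    · exact absurd ((Nat.prime_dvd_prime_iff_eq Fact.out D.heis.hp).1 ((dvd_pow_self q n.succ_ne_zero).trans hd)) hqp
  have hside : ∀ s ∈ F.U, (∀ x : G, x * F.t = F.t * x → x * s = s * x → x ∈ centralizer (F.U : Set G)) →
      Nat.card (inverted (Q ⊓ centralizer {s}) F.t) = Nat.card ↥(Q ⊓ centralizer {s}) := by
    intro s hs hsU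
    have e := card_eq_fixed_mul_inverted (hQo.of_dvd_nat (card_dvd_of_le inf_le_left)) F.t_sq
      (F.mem_normalizer_inf_centralizer hQU hs F.t_mem_U)
    have hbot : Q ⊓ centralizer {s} ⊓ centralizer {F.t} = ⊥ := by
      refine eq_bot_iff.2 fun x hx => mem_bot.2 (hQW x hx.1.1 (hsU x ?_ ?_))
      · exact mem_centralizer_singleton_iff.1 hx.2
      · exact mem_centralizer_singleton_iff.1 hx.1.2
    rwa [hbot, card_bot, one_mul, eq_comm] at e
  have hU1 : ∀ x : G, x * F.t = F.t * x → x * F.u = F.u * x → x ∈ centralizer (F.U : Set G) :=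
    fun x h h' => F.mem_centralizer_U.2 ⟨h, h'⟩
  have hU2 : ∀ x : G, x * F.t = F.t * x → x * (F.t * F.u) = F.t * F.u * x → x ∈ centralizer (F.U : Set G) := by
    intro x h h'
    have := (show Commute x F.t from h).mul_right (show Commute x (F.t * F.u) from h')
    rw [← mul_assoc, F.t_sq, one_mul] at this
    exact hU1 x h this.eq
  have hcardJ := F.card_inverted hQo hQU
  rw [hside _ F.u_mem_U hU1, hside _ (mul_mem F.t_mem_U F.u_mem_U) hU2] at hcardJ
  -- `z` has one fixed point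
  have htz : Commute F.t z := (F.mem_C.1 (F.O_le (D.heis.le D.heis.zY))).symm
  have hzw : ∀ a ∈ zpowers z, ∀ x, x ∈ inverted Q F.t → a * x * a⁻¹ ∈ inverted Q F.t := by
    intro a ha x hx
    obtain ⟨i, rfl⟩ := mem_zpowers_iff.1 ha
    refine ⟨conj_mem_of_le (zpowers_le.2 hQz) (zpow_mem (mem_zpowers z) i) hx.1, ?_⟩
    have hti : F.t * z ^ i * F.t⁻¹ = z ^ i := by rw [(htz.zpow_right i).eq, mul_inv_cancel_right]
    rw [← conj_mul, ← conj_mul, ← conj_inv, hti, hx.2]
    group
  letI act : MulAction (zpowers z) (inverted Q F.t) :=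
    { smul := fun a x => ⟨(a : G) * x * (a : G)⁻¹, hzw a a.2 x x.2⟩
      one_smul := fun x => Subtype.ext (by
        show ((1 : zpowers z) : G) * x * ((1 : zpowers z) : G)⁻¹ = x
        simp)
      mul_smul := fun a a' x => Subtype.ext (by
        show ((a * a' : zpowers z) : G) * x * ((a * a' : zpowers z) : G)⁻¹ = (a : G) * ((a' : G) * x * (a' : G)⁻¹) * (a : G)⁻¹
        rw [Subgroup.coe_mul]; group) }
  have hfix : Nat.card (MulAction.fixedPoints (zpowers z) (inverted Q F.t)) = 1 := by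
    haveI : Subsingleton (MulAction.fixedPoints (zpowers z) (inverted Q F.t)) := by
      refine ⟨fun x x' => ?_⟩
      have key : ∀ w : MulAction.fixedPoints (zpowers z) (inverted Q F.t), ((w : inverted Q F.t) : G) = 1 := by
        intro w
        have h := congrArg Subtype.val (w.2 ⟨z, mem_zpowers z⟩)
        change z * ((w : inverted Q F.t) : G) * z⁻¹ = _ at h
        have hct := D.cent_z hm hmax (mul_inv_eq_iff_eq_mul.1 h).symm
        exact Frame.eq_one_of_fixed_inverted (Frame.odd_orderOf hQo (w : inverted Q F.t).2.1)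
          (mul_inv_eq_iff_eq_mul.2 hct.symm) (w : inverted Q F.t).2.2
      exact Subtype.ext (Subtype.ext ((key x).trans (key x').symm))
    haveI : Nonempty (MulAction.fixedPoints (zpowers z) (inverted Q F.t)) := by
      refine ⟨⟨⟨1, one_mem Q, by simp⟩, fun a => Subtype.ext ?_⟩⟩
      show (a : G) * 1 * (a : G)⁻¹ = 1
      simp
    exact Nat.card_unique
  have hzp : IsPGroup p (zpowers z) :=
    IsPGroup.of_card (n := 1) (by rw [Nat.card_zpowers, D.heis.orderOf_z, pow_one])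
  have hmod := hzp.card_modEq_card_fixedPoints (inverted Q F.t)
  rw [hfix, hcardJ] at hmod
  obtain ⟨-, hρ, -, h2ρ, hdvd, -, -⟩ := D.hyp_rot
  have hone : Nat.card (inverted Q F.t) = 1 := by
    rw [hcardJ]
    refine mul_eq_one_of_dvd D.p_odd hρ h2ρ hdvd h1 h2 ?_
    rwa [Nat.ModEq, Nat.one_mod_eq_one.2 D.heis.hp.ne_one] at hmod
  haveI : Subsingleton (inverted Q F.t) := (Nat.card_eq_one_iff_unique.1 hone).1
  intro x hx
  obtain ⟨f, hf, e, he, hfu, heu, rfl⟩ := Frame.exists_fixed_mul_inverted hQo F.t_sq (hQU F.t_mem_U) hx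
  have he1 : e = 1 := congrArg Subtype.val
    (Subsingleton.elim (⟨e, he, heu⟩ : inverted Q F.t) ⟨1, one_mem Q, by simp⟩)
  rw [he1, mul_one]
  exact mem_centralizer_singleton_iff.2 (mul_inv_eq_iff_eq_mul.1 hfu).symm

/-- An inverted element outside `K` has its centraliser in `C(t)`. -/
theorem cent_inverted (hm : Minimal G) (hmax : IsCoatom F.C) (hloc : F.LocAt p Y) {g : G} (hg : g ∈ F.O)
    (hgu : F.u * g * F.u⁻¹ = g⁻¹) (hgK : g ∉ D.heis.ker) {c : G} (hc : Commute c g) :
    c * F.t = F.t * c := by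
  haveI : Fact p.Prime := ⟨D.heis.hp⟩
  haveI : Fact (Nat.Prime 2) := ⟨Nat.prime_two⟩
  have hg1 : g ≠ 1 := fun h => hgK (h ▸ one_mem _)
  set N := normalizer ((zpowers g : Subgroup G) : Set G) with hN
  have hNtop : N ≠ ⊤ := Frame.normalizer_zpowers_ne_top hm hg hg1
  have hgt : Commute F.t g := (F.mem_C.1 (F.O_le hg)).symm
  have hUN : F.U ≤ N := F.U_le_iff.2
    ⟨Frame.centralizer_le_normalizer_zpowers hgt, Frame.u_mem_normalizer_zpowers hgu⟩
  have hgo : Odd (orderOf g) := Frame.odd_orderOf F.odd_card_O hg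
  have hnf : ¬ F.Fusing N := by
    rintro ⟨-, s, hs, -, hst⟩
    obtain ⟨i, hi⟩ := mem_zpowers_iff.1 ((mem_normalizer_iff.1 (inv_mem hs) g).1 (mem_zpowers g))
    rw [inv_inv] at hi
    have h1 : F.u * g * F.u⁻¹ = g := by
      rw [← hst, show s * F.t * s⁻¹ * g * (s * F.t * s⁻¹)⁻¹ = s * (F.t * (s⁻¹ * g * s) * F.t⁻¹) * s⁻¹ by group,
        ← hi, ← conj_zpow, hgt.eq, mul_inv_cancel_right, hi]
      group
    exact hg1 (Frame.eq_one_of_fixed_inverted hgo h1 hgu)
  have hNeq := F.nonFusingSpec hm N hNtop hUN hnf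
  have hgN : g ∈ N := Frame.centralizer_le_normalizer_zpowers (Commute.refl g)
  have hgcore : g ∈ Core N := F.mem_core_of_odd' hUN hNeq hgN hgo
  set K' := Core N ⊓ centralizer {g} with hK'
  have hKg : ∀ x ∈ K', Commute x g := fun x hx => mem_centralizer_singleton_iff.1 hx.2
  have hK'odd : Odd (Nat.card K') := (Frame.odd_card_core N).of_dvd_nat (card_dvd_of_le inf_le_left)
  have hUcore : F.U ≤ normalizer (Core N : Set G) := hUN.trans (le_normalizer_core N)
  -- the centraliser of `g` is `K' ⟨t⟩`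
  have hsplit : ∀ x : G, Commute x g → x ∈ K' ∨ F.t * x ∈ K' := by
    intro x hx
    have hxN : x ∈ Core N ⊔ F.U := hNeq ▸ Frame.centralizer_le_normalizer_zpowers hx
    obtain ⟨r, hr, k, hk, rfl⟩ := (Cfsg.Lib.Coprime.mem_sup_of_le_normalizer' hUcore).1 hxN
    have hne : r * g * r⁻¹ ≠ g⁻¹ := by
      intro h
      -- then `k` would invert `g`
      have hk' : k * g * k⁻¹ = g⁻¹ := by
        calc k * g * k⁻¹ = r⁻¹ * (r * k * g * (r * k)⁻¹) * r := by group
          _ = r⁻¹ * g * r := by rw [hx.eq, mul_inv_cancel_right]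
          _ = (r⁻¹ * (r * g * r⁻¹) * r)⁻¹ := by rw [h]; group
          _ = g⁻¹ := by group
      exact hg1 (eq_one_of_conj_inv (Frame.odd_card_core N) hgcore hk hk')
    have hrt : r = 1 ∨ r = F.t := by
      rcases F.mem_U.1 hr with rfl | rfl | rfl | rfl
      · exact Or.inl rfl
      · exact Or.inr rfl
      · exact absurd hgu hne
      · refine absurd ?_ hne
        rw [show F.t * F.u * g * (F.t * F.u)⁻¹ = F.t * (F.u * g * F.u⁻¹) * F.t⁻¹ by group, hgu,
          hgt.inv_right.eq, mul_inv_cancel_right]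
    rcases hrt with rfl | rfl
    · rw [one_mul] at hx ⊢
      exact Or.inl ⟨hk, mem_centralizer_singleton_iff.2 hx⟩
    · refine Or.inr ?_
      rw [← mul_assoc, F.t_sq, one_mul]
      refine ⟨hk, mem_centralizer_singleton_iff.2 ?_⟩
      have h := hgt.mul_left hx
      rwa [← mul_assoc, F.t_sq, one_mul] at h
  suffices hmain : ∀ x ∈ K', x * F.t = F.t * x by
    rcases hsplit c hc with h | h
    · exact hmain c h
    · have h' := hmain _ h
      calc c * F.t = F.t * (F.t * c * F.t) := by rw [← mul_assoc, ← mul_assoc, F.t_sq, one_mul]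
        _ = F.t * (F.t * (F.t * c)) := by rw [h']
        _ = F.t * c := by rw [← mul_assoc F.t F.t, F.t_sq, one_mul]
  have hK'U : F.U ≤ normalizer (K' : Set G) := by
    have key : ∀ r ∈ F.U, ∀ x ∈ K', r * x * r⁻¹ ∈ K' := by
      intro r hr x hx
      refine ⟨conj_mem_of_le hUcore hr hx.1, mem_centralizer_singleton_iff.2 ?_⟩
      have h := (show Commute x g from hKg x hx).map (MulAut.conj r).toMonoidHom
      simp only [MulEquiv.coe_toMonoidHom, MulAut.conj_apply] at h
      have hr' : r * g * r⁻¹ = g ∨ r * g * r⁻¹ = g⁻¹ := by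
        rcases F.mem_U.1 hr with rfl | rfl | rfl | rfl
        · left; simp
        · left; rw [hgt.eq, mul_inv_cancel_right]
        · exact Or.inr hgu
        · right
          rw [show F.t * F.u * g * (F.t * F.u)⁻¹ = F.t * (F.u * g * F.u⁻¹) * F.t⁻¹ by group, hgu,
            hgt.inv_right.eq, mul_inv_cancel_right]
      rcases hr' with e | e <;> rw [e] at h
      · exact h.eq
      · exact (inv_inv g ▸ h.inv_right).eq
    exact fun r hr => Cfsg.Lib.Coprime.mem_normalizer_of_conj_mem (key r hr) fun x hx => by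
      simpa using key r⁻¹ (inv_mem hr) x hx
  have hzK' : z ∈ K' := by
    have hzg : Commute z g := (D.comm_z hg).symm
    refine ⟨F.mem_core_of_odd' hUN hNeq (Frame.centralizer_le_normalizer_zpowers hzg)
      (D.heis.orderOf_z.symm ▸ D.p_odd), mem_centralizer_singleton_iff.2 hzg.eq⟩
  have hzpU : F.U ≤ normalizer ((zpowers z : Subgroup G) : Set G) := F.U_le_iff.2
    ⟨Frame.centralizer_le_normalizer_zpowers (F.mem_C.1 (F.O_le (D.heis.le D.heis.zY))).symm,
      Frame.u_mem_normalizer_zpowers D.heis.zinv⟩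
  have hzp : IsPGroup p (zpowers z) :=
    IsPGroup.of_card (n := 1) (by rw [Nat.card_zpowers, D.heis.orderOf_z, pow_one])
  haveI : Group.IsNilpotent F.U := F.isPGroup_U.isNilpotent
  obtain ⟨P, hzP, hPU⟩ := Cfsg.Lib.Coprime.exists_invariant_sylow_ge hK'U (F.coprime_U hK'odd)
    (Or.inl inferInstance) p (zpowers_le.2 hzK') hzp hzpU
  set P' := (P : Subgroup K').map K'.subtype with hP'
  obtain ⟨S, -, -, hLS⟩ := hloc Y D.heis.le (fun v => ⟨1, Subtype.ext (by simpa using D.heis.exp v v.2)⟩)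
    (F.U_le_C.trans D.heis.norm)
  -- `t` centralises the Sylow subgroup
  have hPt : ∀ x ∈ P', Commute F.t x := by
    obtain ⟨s, hs, hs1, hsP⟩ := hLS.cent_inv P' (P.2.map _) hPU
    have hsz : Commute s z := (mem_centralizer_singleton_iff.1 (hsP (hzP (mem_zpowers z)))).symm
    have htz : Commute F.t z := (F.mem_C.1 (F.O_le (D.heis.le D.heis.zY))).symm
    have hnu : ¬ Commute F.u z := fun h => D.heis.z1 (Frame.eq_one_of_fixed_inverted
      (D.heis.orderOf_z.symm ▸ D.p_odd) (by rw [h.eq, mul_inv_cancel_right]) D.heis.zinv)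
    have hst : s = F.t := by
      rcases F.mem_U.1 hs with rfl | rfl | rfl | rfl
      · exact absurd rfl hs1
      · rfl
      · exact absurd hsz hnu
      · refine absurd ?_ hnu
        have h := htz.mul_left hsz
        rwa [← mul_assoc, F.t_sq, one_mul] at h
    exact fun x hx => (mem_centralizer_singleton_iff.1 (hst ▸ hsP hx)).symm
  -- `t` lies in the `p'`-core of the centraliser of `g`
  set M := centralizer ({g} : Set G)
  have htM : F.t ∈ M := mem_centralizer_singleton_iff.2 hgt.eq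
  have hMN : M ≤ N := fun x hx => Frame.centralizer_le_normalizer_zpowers (mem_centralizer_singleton_iff.1 hx)
  haveI : Group.IsSolvable M :=
    Cfsg.Lib.Coprime.isSolvable_of_le hMN (MaxCent.solvable_of_eq F hUN hNeq)
  have hK'M : K' ≤ M := inf_le_right
  have hK'norm : ∀ m ∈ M, ∀ x ∈ K', m * x * m⁻¹ ∈ K' := fun m hm x hx =>
    ⟨conj_mem_of_le (le_normalizer_core N) (hMN hm) hx.1, M.mul_mem (M.mul_mem hm hx.2) (M.inv_mem hm)⟩
  have hP'Syl : ¬ p ∣ (P'.subgroupOf M).index := by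
    have h1 : P'.relIndex M = P'.relIndex K' * K'.relIndex M :=
      (relIndex_mul_relIndex _ _ _ (map_subtype_le _) hK'M).symm
    have h2 : P'.relIndex K' = (P : Subgroup K').index := by
      rw [hP', relIndex, subgroupOf, comap_map_eq_self_of_injective K'.subtype_injective]
    have h3 : K'.relIndex M ≤ 2 := by
      have e : (K'.subgroupOf M).index ≤ 2 := by
        rw [index]
        have hsur : Function.Surjective (fun b : Bool =>
            (QuotientGroup.mk (if b then (1 : M) else ⟨F.t, htM⟩) : M ⧸ K'.subgroupOf M)) := by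
          intro x
          obtain ⟨⟨x, hx⟩, rfl⟩ := QuotientGroup.mk_surjective x
          rcases hsplit x (mem_centralizer_singleton_iff.1 hx) with h | h
          · exact ⟨true, QuotientGroup.eq.2 (by simpa [mem_subgroupOf] using h)⟩
          · exact ⟨false, QuotientGroup.eq.2 (by simpa [mem_subgroupOf, F.t_inv] using h)⟩
        exact (Nat.card_le_card_of_surjective _ hsur).trans (by simp)
      exact e
    intro h
    change p ∣ P'.relIndex M at h
    rw [h1, h2] at h
    rcases (Nat.Prime.dvd_mul D.heis.hp).1 h with h | h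
    · exact P.not_dvd_index h
    · have hpos : K'.relIndex M ≠ 0 := FiniteIndex.index_ne_zero
      have := Nat.le_of_dvd (Nat.pos_of_ne_zero hpos) h
      have := D.heis.hp.two_le
      have := D.heis.p2
      omega
  obtain ⟨PM, hPM⟩ : ∃ PM : Sylow p M, (PM : Subgroup M) = P'.subgroupOf M := by
    have hp' : IsPGroup p (P'.subgroupOf M) := (P.2.map _).comap_of_injective _ M.subtype_injective
    exact ⟨hp'.toSylow hP'Syl, rfl⟩
  have htcore : (⟨F.t, htM⟩ : M) ∈ Cfsg.pPrimeCore p M := by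
    refine mem_pPrimeCore_of_centralizes PM (fun x hx => Subtype.ext ?_) ?_
    · rw [hPM] at hx
      exact (hPt x hx).eq
    · rw [Subgroup.orderOf_mk, F.t_order]
      exact Nat.coprime_two_left.2 D.p_odd
  set N₀ : Subgroup G := K' ⊓ (Cfsg.pPrimeCore p M).map M.subtype with hN₀
  have hN₀odd : Odd (Nat.card N₀) := hK'odd.of_dvd_nat (card_dvd_of_le inf_le_left)
  have hN₀p : ¬ p ∣ Nat.card N₀ := fun h => by
    have h1 : p ∣ Nat.card (Cfsg.pPrimeCore p M) := by
      rw [← card_map_of_injective M.subtype_injective]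
      exact h.trans (card_dvd_of_le inf_le_right)
    exact D.heis.hp.ne_one (Nat.eq_one_of_dvd_coprimes
      (Cfsg.Lib.Components.coprime_card_pPrimeCore p) h1 dvd_rfl)
  have hN₀norm : ∀ m ∈ M, ∀ x ∈ N₀, m * x * m⁻¹ ∈ N₀ := by
    rintro m hm x ⟨hx, ⟨w, hw, rfl⟩⟩
    exact ⟨hK'norm m hm _ hx, ⟨_, (inferInstance : (Cfsg.pPrimeCore p M).Normal).conj_mem w hw ⟨m, hm⟩, by simp⟩⟩
  have hMU : F.U ≤ normalizer (M : Set G) := by
    have key : ∀ r ∈ F.U, ∀ x ∈ M, r * x * r⁻¹ ∈ M := by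
      intro r hr x hx
      rcases hsplit x (mem_centralizer_singleton_iff.1 hx) with h | h
      · exact hK'M (conj_mem_of_le hK'U hr h)
      · have h' := hK'M (conj_mem_of_le hK'U hr h)
        have hrt : Commute r F.t := F.U_comm hr F.t_mem_U
        rw [show r * (F.t * x) * r⁻¹ = r * F.t * r⁻¹ * (r * x * r⁻¹) by group, hrt.eq,
          mul_inv_cancel_right] at h'
        have := mul_mem htM h'
        rwa [← mul_assoc, F.t_sq, one_mul] at this
    exact fun r hr => Cfsg.Lib.Coprime.mem_normalizer_of_conj_mem (key r hr) fun x hx => by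
      simpa using key r⁻¹ (inv_mem hr) x hx
  have hN₀U : F.U ≤ normalizer (N₀ : Set G) := by
    haveI : (Cfsg.pPrimeCore p M).Characteristic := Cfsg.Lib.Components.pPrimeCore_characteristic
    have h2 := hMU.trans (Cfsg.Lib.OddP.le_normalizer_map_of_char (Cfsg.pPrimeCore p M))
    intro r hr
    refine Cfsg.Lib.Coprime.mem_normalizer_of_conj_mem
      (fun x hx => ⟨conj_mem_of_le hK'U hr hx.1, conj_mem_of_le h2 hr hx.2⟩) fun x hx => ?_
    have h3 := conj_mem_of_le hK'U (inv_mem hr) hx.1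
    have h4 := conj_mem_of_le h2 (inv_mem hr) hx.2
    exact ⟨by simpa using h3, by simpa using h4⟩
  -- every Sylow subgroup of `N₀` is centralised by `t`
  set B : Subgroup G := zpowers z ⊔ F.U with hB
  have hBN : B ≤ normalizer (N₀ : Set G) := sup_le (zpowers_le.2 (Cfsg.Lib.Coprime.mem_normalizer_of_conj_mem
    (fun x hx => hN₀norm z (hK'M hzK') x hx) fun x hx => by
      simpa using hN₀norm z⁻¹ (inv_mem (hK'M hzK')) x hx)) hN₀U
  have hBcard : (Nat.card B).Coprime (Nat.card N₀) := by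
    have h := Cfsg.Lib.Coprime.card_sup_mul_card_inf (N := zpowers z) (H := F.U) hzpU
    rw [Nat.card_zpowers, D.heis.orderOf_z, F.card_U, ← hB] at h
    refine Nat.Coprime.coprime_dvd_left (Dvd.intro _ h) ?_
    exact ((D.heis.hp.coprime_iff_not_dvd.2 hN₀p).mul (by
      exact Nat.Coprime.pow_left 2 (Nat.coprime_two_left.2 hN₀odd)))
  haveI : Group.IsSolvable N₀ := Cfsg.Agent.PF.isSolvable_of_odd _ hN₀odd
  have hN₀t : N₀ ≤ centralizer {F.t} := by
    set Z := N₀ ⊓ centralizer {F.t} with hZ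
    suffices e : Z = N₀ by rw [← e]; exact inf_le_right
    refine Subgroup.eq_of_le_of_card_ge inf_le_left (Nat.le_of_dvd Nat.card_pos ?_)
    rw [← Nat.factorization_prime_le_iff_dvd Nat.card_pos.ne' Nat.card_pos.ne']
    intro q hq
    haveI : Fact q.Prime := ⟨hq⟩
    rcases Nat.eq_zero_or_pos ((Nat.card N₀).factorization q) with h0 | h0
    · rw [h0]; exact Nat.zero_le _
    have hqd : q ∣ Nat.card N₀ := Nat.dvd_of_factorization_pos h0.ne'
    have hqp : q ≠ p := fun e => hN₀p (e ▸ hqd)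
    obtain ⟨Q, hQ⟩ := Cfsg.Lib.Coprime.exists_invariant_sylow hBN hBcard (Or.inr inferInstance) q
    set Q' := (Q : Subgroup N₀).map N₀.subtype
    have hQN : Q' ≤ N₀ := map_subtype_le _
    have hQt : Q' ≤ centralizer {F.t} := D.qgroup_le hm hmax hg hgK hqp (Q.2.map _)
      (hN₀odd.of_dvd_nat (card_dvd_of_le hQN)) (fun x hx => hKg x (hQN hx).1)
      (le_sup_right.trans hQ) (hQ (mem_sup_left (mem_zpowers z)))
    have h1 : Nat.card Q' ∣ Nat.card Z := card_dvd_of_le (le_inf hQN hQt)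
    have h2 : Nat.card Q' = q ^ (Nat.card N₀).factorization q := by
      rw [card_map_of_injective N₀.subtype_injective]
      exact Q.card_eq_multiplicity
    rw [h2] at h1
    exact (hq.pow_dvd_iff_le_factorization Nat.card_pos.ne').1 h1
  intro x hx
  set n := x⁻¹ * (F.t * x * F.t⁻¹) with hn
  have hnN : n ∈ N₀ := by
    refine ⟨K'.mul_mem (K'.inv_mem hx) (conj_mem_of_le hK'U F.t_mem_U hx), ?_⟩
    refine ⟨(⟨x, hK'M hx⟩ : M)⁻¹ * (⟨F.t, htM⟩ * ⟨x, hK'M hx⟩ * (⟨F.t, htM⟩ : M)⁻¹), ?_, by simp [hn]⟩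
    rw [SetLike.mem_coe, ← mul_assoc, ← mul_assoc]
    refine mul_mem ?_ (inv_mem htcore)
    simpa [mul_assoc] using (inferInstance : (Cfsg.pPrimeCore p M).Normal).conj_mem _ htcore (⟨x, hK'M hx⟩ : M)⁻¹
  have hnt : Commute F.t n := (mem_centralizer_singleton_iff.1 (hN₀t hnN)).symm
  have e1 : F.t * x * F.t⁻¹ = x * n := by rw [hn, mul_inv_cancel_left]
  have e2 : x = x * n * n := by
    calc x = F.t * (F.t * x * F.t⁻¹) * F.t⁻¹ := by
          rw [F.t_inv, show F.t * (F.t * x * F.t) * F.t = (F.t * F.t) * x * (F.t * F.t) by group, F.t_sq,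
            one_mul, mul_one]
      _ = F.t * x * F.t⁻¹ * (F.t * n * F.t⁻¹) := by rw [conj_mul, ← e1]
      _ = x * n * n := by rw [e1, hnt.eq, mul_inv_cancel_right]
  have hn1 : n = 1 := sq_inj (Frame.odd_orderOf hN₀odd hnN) (by simp) (by
    rw [mul_assoc] at e2
    rw [mul_one]
    exact mul_eq_left.1 e2.symm)
  rw [hn1, mul_one] at e1
  exact (mul_inv_eq_iff_eq_mul.1 e1).symm

/-- An element of `O` outside `K` has its centraliser in `C(t)`. -/
theorem cent_outside (hm : Minimal G) (hmax : IsCoatom F.C) (hloc : F.LocAt p Y) {x : G} (hx : x ∈ F.O) (hxK : x ∉ D.heis.ker)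
    {c : G} (hc : Commute c x) : c * F.t = F.t * c := by
  haveI : Fact p.Prime := ⟨D.heis.hp⟩
  -- a part of prime power order outside `K`
  obtain ⟨n, hn⟩ : ∃ n, n = orderOf (D.heis.rot ⟨x, hx⟩) := ⟨_, rfl⟩
  have hkerrot : ∀ o : F.O, D.heis.rot o = 1 ↔ (o : G) ∈ D.heis.ker := fun o => by
    rw [Heis.mem_ker, Units.ext_iff]
    exact ⟨fun h => ⟨o.2, h⟩, fun h => h.2⟩
  have hn1 : n ≠ 1 := fun h => hxK ((hkerrot ⟨x, hx⟩).1 (orderOf_eq_one_iff.1 (by rw [← hn, h])))
  set l := n.minFac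
  haveI hl : Fact l.Prime := ⟨Nat.minFac_prime hn1⟩
  have hlp : l ≠ p := by
    intro e
    refine D.rel_coprime ((e ▸ n.minFac_dvd : p ∣ n).trans ?_)
    have hidx : (D.heis.rot.ker).index = D.heis.ker.relIndex F.O := by
      rw [relIndex]; congr 1; ext o; rw [MonoidHom.mem_ker, hkerrot, mem_subgroupOf]
    have hpow : (⟨x, hx⟩ : F.O) ^ (D.heis.rot.ker).index ∈ D.heis.rot.ker := pow_index_mem _ _
    rw [hn, ← hidx]
    exact orderOf_dvd_of_pow_eq_one (by rw [← map_pow]; exact hpow)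
  obtain ⟨i, m, hml, hord⟩ := Nat.exists_eq_pow_mul_and_not_dvd (orderOf_pos x).ne' l hl.out.ne_one
  set x' := x ^ m
  have hm0 : 0 < m := Nat.pos_of_ne_zero fun h => hml (h ▸ dvd_zero l)
  have hx'O : x' ∈ F.O := pow_mem hx m
  have hx'K : x' ∉ D.heis.ker := by
    intro h
    have h1 : D.heis.rot ⟨x, hx⟩ ^ m = 1 := by rw [← map_pow]; exact (hkerrot _).2 h
    exact hml ((n.minFac_dvd).trans (hn ▸ orderOf_dvd_of_pow_eq_one h1))
  have hx'l : IsPGroup l (zpowers x') := by
    refine IsPGroup.of_card (n := i) ?_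
    rw [Nat.card_zpowers, orderOf_pow' _ hm0.ne', hord, Nat.gcd_eq_right (Dvd.intro_left _ rfl),
      Nat.mul_div_cancel _ hm0]
  -- it is conjugate in `O` to an inverted element
  haveI : Fact (Nat.Prime 2) := ⟨Nat.prime_two⟩
  haveI : Group.IsNilpotent F.U := F.isPGroup_U.isNilpotent
  obtain ⟨L, hL⟩ := Cfsg.Lib.Coprime.exists_invariant_sylow F.U_le_normalizer_O (F.coprime_U F.odd_card_O)
    (Or.inl inferInstance) l
  obtain ⟨L', hL'⟩ := (hx'l.comap_of_injective F.O.subtype F.O.subtype_injective).exists_le_sylow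
  obtain ⟨o, ho⟩ := MulAction.exists_smul_eq F.O L' L
  set g := (o : G) * x' * (o : G)⁻¹
  have hgL : g ∈ (L : Subgroup F.O).map F.O.subtype := by
    rw [← ho, Cfsg.Lib.Coprime.map_subtype_smul, Cfsg.Lib.Coprime.mem_conjMap]
    refine ⟨⟨x', hx'O⟩, hL' (mem_zpowers x'), ?_⟩
    simp [g, mul_assoc]
  have hgO : g ∈ F.O := mul_mem (mul_mem o.2 hx'O) (inv_mem o.2)
  have hgK : g ∉ D.heis.ker := fun h => hx'K (by
    simpa [g, mul_assoc] using D.heis.ker_normal D.W_eq (inv_mem o.2) h)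
  have hgu : F.u * g * F.u⁻¹ = g⁻¹ := by
    have hLo : Odd (Nat.card ((L : Subgroup F.O).map F.O.subtype)) :=
      F.odd_card_O.of_dvd_nat (card_dvd_of_le (map_subtype_le _))
    obtain ⟨f, hf, e, he, h1, h2, heq⟩ := Frame.exists_fixed_mul_inverted hLo F.u_sq (hL F.u_mem_U) hgL
    have hfb : f ∈ zpowers b := D.heis.eq_zpow_b D.W_eq (map_subtype_le _ hf) h1
    obtain ⟨w, hw, hwf⟩ := hf
    obtain ⟨k, hk⟩ := IsPGroup.iff_orderOf.1 L.2 ⟨w, hw⟩
    rw [Subgroup.orderOf_mk] at hk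
    have hfk : orderOf f = l ^ k := by
      rw [← hwf, ← hk]; exact orderOf_injective F.O.subtype F.O.subtype_injective w
    have hd := orderOf_dvd_of_mem_zpowers hfb
    rw [D.heis.orderOf_b, hfk] at hd
    have hf1 : f = 1 := by
      rcases k with _ | k
      · exact orderOf_eq_one_iff.1 (by rw [hfk, pow_zero])
      · exact absurd ((Nat.prime_dvd_prime_iff_eq hl.out D.heis.hp).1 ((dvd_pow_self l k.succ_ne_zero).trans hd)) hlp
    rw [heq, hf1, one_mul, h2]
  -- transport
  have hc' : Commute ((o : G) * c * (o : G)⁻¹) g := by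
    have h := (hc.pow_right m).map (MulAut.conj (o : G)).toMonoidHom
    simpa [g] using h
  have hot := F.mem_C.1 (F.O_le o.2)
  have h := D.cent_inverted hm hmax hloc hgO hgu hgK hc'
  calc c * F.t = (o : G)⁻¹ * ((o : G) * c * (o : G)⁻¹ * ((o : G) * F.t * (o : G)⁻¹)) * (o : G) := by group
    _ = (o : G)⁻¹ * ((o : G) * F.t * (o : G)⁻¹ * ((o : G) * c * (o : G)⁻¹)) * (o : G) := by
        rw [hot, mul_inv_cancel_right, h]
    _ = F.t * c := by group

end Inverted

end Cfsg.Lib.GW
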