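import Cfsg.Agent.OddLocal.SmallAction

/-!
# A characteristic subgroup of exponent `p` and class two detecting coprime automorphisms
-/

set_option autoImplicit false
set_option linter.unusedSectionVars false
set_option linter.style.haveILetI false

namespace Cfsg.Lib.GW

open Subgroup
open scoped commutatorElement

universe u

variable {G : Type u} [Group G] [Finite G] {p : ℕ} [hp : Fact p.Prime]

/-- A characteristic subgroup of exponent `p` and class at most two on which coprime automorphisms act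
faithfully. -/
theorem exists_exponent_class_two (hp2 : p ≠ 2) {R : Subgroup G} (hR : IsPGroup p R) :
    ∃ Y : Subgroup G, Y ≤ R ∧ normalizer (R : Set G) ≤ normalizer (Y : Set G) ∧ (∀ x ∈ Y, x ^ p = 1) ∧
      (∀ a ∈ Y, ∀ b ∈ Y, ∀ c ∈ Y, a * b * a⁻¹ * b⁻¹ * c = c * (a * b * a⁻¹ * b⁻¹)) ∧
      ∀ g ∈ normalizer (R : Set G), (orderOf g).Coprime p → g ∈ centralizer (Y : Set G) →
        g ∈ centralizer (R : Set G) := by
  obtain ⟨H, hHc, -, hHR, hCH⟩ := Cfsg.Lib.SolvStruct.exists_critical hR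
  haveI := hHc
  have hcomm : ∀ a ∈ H, ∀ b : R, ∀ c ∈ H, a * b * a⁻¹ * b⁻¹ * c = c * (a * b * a⁻¹ * b⁻¹) := by
    intro a ha b c hc
    have h1 : a * b * a⁻¹ * b⁻¹ ∈ centralizer (H : Set R) := by
      have h := (hHR (commutator_mem_commutator ha (mem_top b))).2
      rwa [commutatorElement_def] at h
    exact (mem_centralizer_iff.1 h1 c hc).symm
  set D : Subgroup R := closure {y : R | y ∈ H ∧ y ^ p = 1} with hD
  haveI hDc : D.Characteristic := Cfsg.Lib.OddP.closure_characteristic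
  have hDH : D ≤ H := (closure_le _).2 fun _ h => h.1
  have hDexp : ∀ x ∈ D, x ^ p = 1 := by
    have hle : D ≤ (closure {y : H | y ^ p = 1}).map H.subtype := by
      refine (closure_le _).mpr ?_
      rintro y ⟨hy, hyp⟩
      exact ⟨⟨y, hy⟩, subset_closure (show (⟨y, hy⟩ : H) ^ p = 1 from Subtype.ext hyp), rfl⟩
    have hcl : ⁅commutator H, (⊤ : Subgroup H)⁆ = ⊥ := by
      rw [commutator_eq_bot_iff_le_centralizer, _root_.commutator_def, commutator_le]
      intro a _ b _
      refine mem_centralizer_iff.mpr fun c _ => Subtype.ext ?_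
      show (c : R) * ((⁅a, b⁆ : H) : R) = ((⁅a, b⁆ : H) : R) * c
      rw [commutatorElement_def]
      simpa using (hcomm a a.2 b c c.2).symm
    intro x hx
    obtain ⟨y, hy, rfl⟩ := hle hx
    rw [← map_pow, Cfsg.Lib.PGroups.pow_eq_one_of_mem_closure_class_two hp.out hp2 hcl hy, map_one]
  refine ⟨D.map R.subtype, map_subtype_le _, Cfsg.Lib.OddP.le_normalizer_map_of_char D, ?_, ?_, ?_⟩
  · rintro _ ⟨x, hx, rfl⟩
    rw [← map_pow, hDexp x hx, map_one]
  · rintro _ ⟨a, ha, rfl⟩ _ ⟨b, -, rfl⟩ _ ⟨c, hc, rfl⟩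
    exact congrArg R.subtype (hcomm a (hDH ha) b c (hDH hc))
  · intro g hg hgp hgD
    set A := zpowers g
    have hA : (Nat.card A).Coprime p := by rwa [Nat.card_zpowers]
    have hAR : A ≤ normalizer (R : Set G) := zpowers_le.2 hg
    have hAD : A ≤ centralizer ((D.map R.subtype : Subgroup G) : Set G) := zpowers_le.2 hgD
    set H' := H.map R.subtype with hH'
    have hAH : A ≤ normalizer (H' : Set G) := hAR.trans (Cfsg.Lib.OddP.le_normalizer_map_of_char H)
    have hH'p : IsPGroup p H' := (hR.to_subgroup H).map _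
    have h1 : A ≤ centralizer (H' : Set G) := by
      refine Cfsg.Lib.GaschutzYen.le_centralizer_of_omega hp2 _ rfl hH'p hAH hA fun q hq hqp r hr => ?_
      obtain ⟨q', hq', rfl⟩ := hq
      exact (mem_centralizer_iff.mp (hAD hr) _ (mem_map_of_mem _
        (subset_closure (⟨hq', R.subtype_injective (by rw [map_pow, map_one]; exact hqp)⟩ :
          q' ∈ {y : R | y ∈ H ∧ y ^ p = 1})))).symm
    refine mem_centralizer_iff.mpr fun k hk => ?_
    have hcop : (Nat.card A).Coprime (Nat.card H') := by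
      obtain ⟨i, hi⟩ := IsPGroup.iff_card.mp hH'p
      rw [hi]
      exact hA.pow_right i
    have hkc : k ∈ centralizer (A : Set G) := by
      refine Cfsg.Lib.Coprime.centralizes_of_coprime_chain hcop h1 fun b hb => ?_
      have hbR : k⁻¹ * b * k * b⁻¹ ∈ R := by
        rw [show k⁻¹ * b * k * b⁻¹ = k⁻¹ * (b * k * b⁻¹) by group]
        exact mul_mem (inv_mem hk) ((mem_normalizer_iff.mp (hAR hb) k).mp hk)
      suffices h2 : (⟨_, hbR⟩ : R) ∈ centralizer (H : Set R) from ⟨_, hCH h2, rfl⟩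
      refine mem_centralizer_iff.mpr fun c hc => Subtype.ext ?_
      show (c : G) * (k⁻¹ * b * k * b⁻¹) = k⁻¹ * b * k * b⁻¹ * c
      have hc' : (c : G) ∈ H' := mem_map_of_mem _ hc
      have hkc' : k * c * k⁻¹ ∈ H' :=
        ⟨⟨k, hk⟩ * c * ⟨k, hk⟩⁻¹, (inferInstance : H.Normal).conj_mem c hc _, rfl⟩
      have e1 : k * c * k⁻¹ * b = b * (k * c * k⁻¹) := mem_centralizer_iff.mp (h1 hb) _ hkc'
      have e2 : (c : G) * b⁻¹ = b⁻¹ * c := mem_centralizer_iff.mp (h1 (inv_mem hb)) _ hc'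
      calc (c : G) * (k⁻¹ * b * k * b⁻¹) = k⁻¹ * (k * c * k⁻¹ * b) * k * b⁻¹ := by group
        _ = k⁻¹ * (b * (k * c * k⁻¹)) * k * b⁻¹ := by rw [e1]
        _ = k⁻¹ * b * k * (c * b⁻¹) := by group
        _ = k⁻¹ * b * k * (b⁻¹ * c) := by rw [e2]
        _ = k⁻¹ * b * k * b⁻¹ * c := by group
    exact (mem_centralizer_iff.mp hkc g (mem_zpowers g)).symm

end Cfsg.Lib.GW
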