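import Cfsg.Agent.FourGroupGW.Inverted.Matrices
import Mathlib.FieldTheory.IsAlgClosed.AlgebraicClosure

/-!
# `O` modulo the kernel of its action on `Y / ⟨z⟩` is cyclic of order dividing `p ± 1`
-/

set_option autoImplicit false
set_option linter.unusedSectionVars false
set_option linter.style.haveILetI false

namespace Cfsg.Lib.GW

open Subgroup Matrix

universe u

variable {G : Type u} [Group G] [Finite G]

/-- The elements of `O` acting trivially on `Y` modulo its centre. -/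
def Heis.ker {F : Frame G} {p : ℕ} {Y : Subgroup G} {b d z : G} (H : Heis F p Y b d z) : Subgroup G where
  carrier := {o | o ∈ F.O ∧ H.mat o = 1}
  one_mem' := ⟨one_mem _, H.mat_one⟩
  mul_mem' := fun {a c} ha hc =>
    ⟨mul_mem ha.1 hc.1, by rw [H.mat_mul (F.O_le ha.1) (F.O_le hc.1), ha.2, hc.2, one_mul]⟩
  inv_mem' := fun {a} ha => ⟨inv_mem ha.1, by
    have h := H.mat_inv_mul (F.O_le ha.1)
    rwa [ha.2, mul_one] at h⟩

/-- The centraliser of `Y` in `O`. -/
def Heis.centre {F : Frame G} {p : ℕ} {Y : Subgroup G} {b d z : G} (_ : Heis F p Y b d z) : Subgroup G :=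
  F.O ⊓ centralizer (Y : Set G)

namespace Heis

variable {F : Frame G} {p : ℕ} {Y : Subgroup G} {b d z : G} (H : Heis F p Y b d z)
include H

theorem mem_ker {o : G} : o ∈ H.ker ↔ o ∈ F.O ∧ H.mat o = 1 := Iff.rfl

theorem ker_le : H.ker ≤ F.O := fun _ h => h.1

theorem mat_b : H.mat b = 1 := by
  have h1 : co Y p b d z (b * b * b⁻¹) = ![1, 0] := by rw [mul_inv_cancel_right, H.co_b]
  have h2 : co Y p b d z (b * d * b⁻¹) = ![0, 1] := by
    have := H.co_nf 0 1 1
    simp only [pow_zero, pow_one, one_mul, Nat.cast_zero, Nat.cast_one] at this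
    rw [show b * d * b⁻¹ = z * d by rw [← H.comm]; group, (H.zc d H.dY).eq, this]
  ext i j
  fin_cases i <;> fin_cases j <;>
    first
    | simpa [Heis.mat, H.co_b] using congrFun h1 0
    | simpa [Heis.mat, H.co_b] using congrFun h1 1
    | simpa [Heis.mat] using congrFun h2 0
    | simpa [Heis.mat] using congrFun h2 1

variable (hW : F.W = zpowers b)
include hW

theorem eq_zpow_b {w : G} (hw : w ∈ F.O) (hwu : F.u * w * F.u⁻¹ = w) : w ∈ zpowers b :=
  hW ▸ F.mem_W.2 ⟨hw, (mul_inv_eq_iff_eq_mul.1 hwu).symm⟩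

theorem mat_fixed_eq_one {w : G} (hw : w ∈ F.O) (hwu : F.u * w * F.u⁻¹ = w) : H.mat w = 1 := by
  obtain ⟨k, rfl⟩ := mem_powers_iff_mem_zpowers.2 (H.eq_zpow_b hW hw hwu)
  show H.mat (b ^ k) = 1
  rw [H.mat_pow (F.O_le (H.le H.bY)), H.mat_b, one_pow]

/-- Every element of `O` acts as an inverted one does. -/
theorem exists_inverted {o : G} (ho : o ∈ F.O) :
    ∃ x ∈ F.O, F.u * x * F.u⁻¹ = x⁻¹ ∧ H.mat o = H.mat x := by
  obtain ⟨a, ha, x, hx, h1, h2, rfl⟩ := Frame.exists_fixed_mul_inverted F.odd_card_O F.u_sq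
    (F.U_le_normalizer_O F.u_mem_U) ho
  exact ⟨x, hx, h2, by rw [H.mat_mul (F.O_le ha) (F.O_le hx), H.mat_fixed_eq_one hW ha h1, one_mul]⟩

theorem form {o : G} (ho : o ∈ F.O) :
    H.mat o 1 1 = H.mat o 0 0 ∧ H.mat o 0 0 * H.mat o 0 0 - H.mat o 0 1 * H.mat o 1 0 = 1 := by
  obtain ⟨x, hx, hxu, e⟩ := H.exists_inverted hW ho
  rw [e]
  exact H.mat_inverted hx hxu

theorem cross {o o' : G} (ho : o ∈ F.O) (ho' : o' ∈ F.O) :
    H.mat o 0 1 * H.mat o' 1 0 = H.mat o 1 0 * H.mat o' 0 1 := by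
  have h := (H.form hW (mul_mem ho ho')).1
  rw [H.mat_mul (F.O_le ho) (F.O_le ho')] at h
  simp [Matrix.mul_apply, Fin.sum_univ_two, (H.form hW ho).1, (H.form hW ho').1] at h
  linear_combination -h

theorem mat_comm {o o' : G} (ho : o ∈ F.O) (ho' : o' ∈ F.O) : H.mat o * H.mat o' = H.mat o' * H.mat o := by
  have h1 := (H.form hW ho).1
  have h2 := (H.form hW ho').1
  have h3 := H.cross hW ho ho'
  ext i j
  fin_cases i <;> fin_cases j <;> simp [Matrix.mul_apply, Fin.sum_univ_two, h1, h2]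
  · linear_combination h3
  · ring
  · ring
  · linear_combination -h3

/-- Conjugation by `u` inverts `O` modulo the kernel. -/
theorem u_conj_mul_mem {o : G} (ho : o ∈ F.O) : F.u * o * F.u⁻¹ * o ∈ H.ker := by
  have hu : F.u * o * F.u⁻¹ ∈ F.O := conj_mem_of_le F.U_le_normalizer_O F.u_mem_U ho
  obtain ⟨x, hx, hxu, e⟩ := H.exists_inverted hW ho
  refine ⟨mul_mem hu ho, ?_⟩
  rw [H.mat_mul (F.O_le hu) (F.O_le ho), H.mat_u (F.O_le ho), e, ← H.mat_u (F.O_le hx), hxu,
    H.mat_inv_mul (F.O_le hx)]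

theorem ker_normal {o k : G} (ho : o ∈ F.O) (hk : k ∈ H.ker) : o * k * o⁻¹ ∈ H.ker := by
  refine ⟨mul_mem (mul_mem ho hk.1) (inv_mem ho), ?_⟩
  rw [H.mat_mul (mul_mem (F.O_le ho) (F.O_le hk.1)) (inv_mem (F.O_le ho)),
    H.mat_mul (F.O_le ho) (F.O_le hk.1), hk.2, mul_one, H.mat_mul_inv (F.O_le ho)]

variable {y : G} (hy : y ∈ F.O) (hc : H.mat y 0 1 ≠ 0) (he : H.mat y 1 0 ≠ 0)
include hy hc he

theorem ratio {o : G} (ho : o ∈ F.O) : H.mat o 1 0 = H.mat y 1 0 * (H.mat y 0 1)⁻¹ * H.mat o 0 1 := by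
  haveI : Fact p.Prime := ⟨H.hp⟩
  have h := H.cross hW hy ho
  field_simp
  linear_combination h

theorem mat_eq_one_iff {o : G} (ho : o ∈ F.O) : H.mat o = 1 ↔ H.mat o 0 0 = 1 := by
  haveI : Fact p.Prime := ⟨H.hp⟩
  refine ⟨fun h => by simp [h], fun h => ?_⟩
  obtain ⟨h1, h2⟩ := H.form hW ho
  have h3 := H.ratio hW hy hc he ho
  rw [h, h3] at h2
  have h01 : H.mat o 0 1 = 0 := by
    have : H.mat y 1 0 * (H.mat y 0 1)⁻¹ * (H.mat o 0 1 * H.mat o 0 1) = 0 := by linear_combination -h2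
    rcases mul_eq_zero.1 this with h' | h'
    · exact absurd h' (mul_ne_zero he (inv_ne_zero hc))
    · exact mul_self_eq_zero.1 h'
  rw [h01, mul_zero] at h3
  ext i j
  fin_cases i <;> fin_cases j <;> simp [h, h01, h3, h1]

/-- An element outside the kernel moves `b` off `⟨b, z⟩`. -/
theorem entries_of_not_mem {o : G} (ho : o ∈ F.O) (hk : o ∉ H.ker) :
    H.mat o 0 0 ≠ 1 ∧ H.mat o 1 0 ≠ 0 := by
  haveI : Fact p.Prime := ⟨H.hp⟩
  have hne : H.mat o 0 0 ≠ 1 := fun h => hk ⟨ho, (H.mat_eq_one_iff hW hy hc he ho).2 h⟩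
  refine ⟨hne, fun h10 => hne ?_⟩
  obtain ⟨h1, h2⟩ := H.form hW ho
  have h3 := H.ratio hW hy hc he ho
  rw [h10, eq_comm, mul_eq_zero] at h3
  have h01 := h3.resolve_left (mul_ne_zero he (inv_ne_zero hc))
  have ha2 : H.mat o 0 0 * H.mat o 0 0 = 1 := by linear_combination h2 + (H.mat o 1 0) * h01
  have hdiag : H.mat o = H.mat o 0 0 • 1 := by
    ext i j
    fin_cases i <;> fin_cases j <;> simp [h01, h10, h1]
  have hpow : H.mat o ^ orderOf o = 1 := by rw [← H.mat_pow (F.O_le ho), pow_orderOf_eq_one, H.mat_one]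
  rw [hdiag, smul_pow, one_pow] at hpow
  have h00 := congrFun (congrFun hpow 0) 0
  simp at h00
  obtain ⟨k, hk'⟩ := Frame.odd_orderOf F.odd_card_O ho
  rwa [hk', pow_succ, pow_mul, pow_two, ha2, one_pow, one_mul] at h00

/-- The structure of the image. -/
theorem rotation (hyp : ¬ p ∣ orderOf y) (hmove : ∃ v ∈ Y, y * v ≠ v * y) :
    Nat.card F.O = H.ker.relIndex F.O * Nat.card H.ker ∧ Odd (H.ker.relIndex F.O) ∧
      1 < H.ker.relIndex F.O ∧ 2 * H.ker.relIndex F.O ≤ p + 1 ∧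
      (H.ker.relIndex F.O ∣ p - 1 ∨ H.ker.relIndex F.O ∣ p + 1) ∧
      (∃ r ∈ F.O, ∀ o ∈ F.O, ∃ i : ℕ, (r ^ i)⁻¹ * o ∈ H.ker) ∧
      ∀ A : Subgroup G, A ≤ F.O → A ⊓ H.ker = ⊥ → Nat.card A ∣ H.ker.relIndex F.O := by
  haveI : Fact p.Prime := ⟨H.hp⟩
  classical
  set L := AlgebraicClosure (ZMod p)
  haveI : CharP L p := charP_of_injective_algebraMap (algebraMap (ZMod p) L).injective p
  set ι := algebraMap (ZMod p) L
  set ν := H.mat y 1 0 * (H.mat y 0 1)⁻¹ with hν
  have hν0 : ν ≠ 0 := mul_ne_zero he (inv_ne_zero hc)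
  obtain ⟨s, hs⟩ := IsAlgClosed.exists_pow_nat_eq (ι ν) two_pos
  have hs0 : s ≠ 0 := fun h => hν0 (ι.injective (by rw [← hs, h, map_zero, zero_pow two_ne_zero]))
  have hrat : ∀ o : F.O, H.mat (o : G) 1 0 = ν * H.mat (o : G) 0 1 := fun o => H.ratio hW hy hc he o.2
  let φ₀ : F.O →* L :=
    { toFun := fun o => ι (H.mat (o : G) 0 0) + ι (H.mat (o : G) 0 1) * s
      map_one' := by simp [H.mat_one]
      map_mul' := fun o o' => by
        show ι (H.mat ((o : G) * o') 0 0) + ι (H.mat ((o : G) * o') 0 1) * s = _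
        rw [H.mat_mul (F.O_le o.2) (F.O_le o'.2)]
        simp only [Matrix.mul_apply, Fin.sum_univ_two, hrat o', (H.form hW o'.2).1, map_add, map_mul]
        linear_combination -(ι (H.mat (o : G) 0 1) * ι (H.mat (o' : G) 0 1)) * hs }
  set φ := φ₀.toHomUnits
  have hker : ∀ o : F.O, φ o = 1 ↔ (o : G) ∈ H.ker := by
    intro o
    rw [mem_ker, Units.ext_iff]
    refine ⟨fun h => ⟨o.2, (H.mat_eq_one_iff hW hy hc he o.2).2 ?_⟩, fun h => ?_⟩
    · change ι (H.mat (o : G) 0 0) + ι (H.mat (o : G) 0 1) * s = 1 at h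
      have h2 := congrArg ι (H.form hW o.2).2
      rw [hrat o, map_sub, map_mul, map_mul, map_mul, map_one] at h2
      have h3 : ι (H.mat (o : G) 0 0) - ι (H.mat (o : G) 0 1) * s = 1 := by
        linear_combination h2 - (ι (H.mat (o : G) 0 0) - ι (H.mat (o : G) 0 1) * s) * h -
          (ι (H.mat (o : G) 0 1)) ^ 2 * hs
      have h4 : (2 : L) * (ι (H.mat (o : G) 0 0) - 1) = 0 := by linear_combination h + h3
      have h5 : (2 : L) ≠ 0 := by
        rw [← map_ofNat ι 2]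
        exact fun e => H.two_ne_zero' (ι.injective (e.trans (map_zero ι).symm))
      exact ι.injective (by rw [map_one]; exact sub_eq_zero.1 ((mul_eq_zero.1 h4).resolve_left h5))
    · show ι (H.mat (o : G) 0 0) + ι (H.mat (o : G) 0 1) * s = 1
      simp [h.2]
  have hkeq : φ.ker = H.ker.subgroupOf F.O := by
    ext o
    rw [MonoidHom.mem_ker, hker, mem_subgroupOf]
  have hidx : H.ker.relIndex F.O = Nat.card φ.range := by
    rw [relIndex, ← hkeq, index_ker]
  haveI : Finite φ.range := (Set.finite_range φ).to_subtype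
  haveI : IsCyclic φ.range :=
    isCyclic_of_injective_ringHom ((Units.coeHom L).comp φ.range.subtype)
      (Units.val_injective.comp Subtype.val_injective)
  have hfull : Nat.card F.O = H.ker.relIndex F.O * Nat.card H.ker := by
    rw [mul_comm, relIndex, ← Nat.card_congr (subgroupOfEquivOfLe H.ker_le).toEquiv, card_mul_index]
  have hodd : Odd (H.ker.relIndex F.O) := F.odd_card_O.of_dvd_nat (Dvd.intro _ hfull.symm)
  obtain ⟨r₀, hr₀⟩ := IsCyclic.exists_generator (α := φ.range)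
  obtain ⟨r, hr⟩ := r₀.2
  have hord : orderOf (φ r) = H.ker.relIndex F.O := by
    rw [hidx, ← orderOf_eq_card_of_forall_mem_zpowers hr₀, ← Subgroup.orderOf_coe r₀, hr]
  have hdvd : H.ker.relIndex F.O ∣ p - 1 ∨ H.ker.relIndex F.O ∣ p + 1 := by
    rw [← hord]
    set a := H.mat (r : G) 0 0
    set c := H.mat (r : G) 0 1
    have hval : ((φ r : Lˣ) : L) = ι a + ι c * s := rfl
    have hfrob : ∀ x : ZMod p, ι x ^ p = ι x := fun x => by rw [← map_pow, ZMod.pow_card]
    have hsp : s ^ p = s ∨ s ^ p = -s := by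
      refine mul_self_eq_mul_self_iff.1 ?_
      rw [← mul_pow, ← pow_two, hs, hfrob]
    have hvp : ((φ r : Lˣ) : L) ^ p = ι a + ι c * s ^ p := by
      rw [hval, add_pow_char, mul_pow, hfrob, hfrob]
    rcases hsp with h | h
    · left
      rw [h, ← hval] at hvp
      refine orderOf_dvd_of_pow_eq_one (Units.ext ?_)
      rw [Units.val_pow_eq_pow_val, Units.val_one]
      refine mul_right_cancel₀ (Units.ne_zero (φ r)) ?_
      rw [← pow_succ, Nat.sub_add_cancel H.hp.one_lt.le, hvp, one_mul]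
    · right
      rw [h] at hvp
      refine orderOf_dvd_of_pow_eq_one (Units.ext ?_)
      rw [Units.val_pow_eq_pow_val, Units.val_one, pow_succ, hvp, hval]
      have h2 := congrArg ι (H.form hW r.2).2
      rw [hrat r, map_sub, map_mul, map_mul, map_mul, map_one] at h2
      linear_combination h2 - ι c ^ 2 * hs
  have hy1 : φ ⟨y, hy⟩ ≠ 1 := fun h => by
    have h' := ((hker _).1 h).2
    exact hc (by rw [h']; simp)
  have h1 : 1 < H.ker.relIndex F.O := by
    rw [hidx]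
    haveI : Nontrivial φ.range := ⟨⟨φ ⟨y, hy⟩, _, rfl⟩, 1, fun h => hy1 (congrArg Subtype.val h)⟩
    exact Finite.one_lt_card
  refine ⟨hfull, hodd, h1, ?_, hdvd, ⟨r, r.2, fun o ho => ?_⟩, fun A hA hAK => ?_⟩
  · have hpodd : Odd p := H.hp.odd_of_ne_two H.p2
    obtain ⟨m, hm⟩ := hodd
    obtain ⟨l, hl⟩ := hpodd
    have h2 : 2 * H.ker.relIndex F.O ∣ p - 1 ∨ 2 * H.ker.relIndex F.O ∣ p + 1 := by
      have hcop : Nat.Coprime 2 (H.ker.relIndex F.O) := Nat.coprime_two_left.2 ⟨m, hm⟩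
      exact hdvd.imp (fun h => hcop.mul_dvd_of_dvd_of_dvd ⟨l, by omega⟩ h)
        (fun h => hcop.mul_dvd_of_dvd_of_dvd ⟨l + 1, by omega⟩ h)
    rcases h2 with h | h
    · exact (Nat.le_of_dvd (by have := H.hp.two_le; omega) h).trans (by omega)
    · exact Nat.le_of_dvd (by omega) h
  · obtain ⟨i, hi⟩ := mem_powers_iff_mem_zpowers.2 (hr₀ ⟨φ ⟨o, ho⟩, _, rfl⟩)
    refine ⟨i, ?_⟩
    have h := congrArg Subtype.val hi
    simp only [SubgroupClass.coe_pow] at h
    have : φ ((r ^ i)⁻¹ * ⟨o, ho⟩) = 1 := by rw [map_mul, map_inv, map_pow, hr, h, inv_mul_cancel]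
    exact (hker _).1 this
  · rw [hidx]
    refine Subgroup.card_dvd_of_injective (φ.rangeRestrict.comp (inclusion hA))
      ((injective_iff_map_eq_one _).2 fun a ha => ?_)
    have h := (hker _).1 (congrArg Subtype.val ha)
    have : (a : G) ∈ A ⊓ H.ker := ⟨a.2, h⟩
    rw [hAK, mem_bot] at this
    exact Subtype.ext this

end Heis

end Cfsg.Lib.GW
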