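import Cfsg.Agent.FourGroupGW.Inverted.Theta
import Cfsg.Agent.FourGroupGW.Inverted.Cent
import Cfsg.Agent.FourGroupGW.CharSpec
import Cfsg.Agent.FourGroupGW.FamilyBound

/-!
# Gorenstein–Walter, four-group case, pieces G and H: every bad prime of kind (s) is of the mixed kind
-/

set_option autoImplicit false
set_option linter.unusedSectionVars false
set_option linter.style.haveILetI false

namespace Cfsg.Lib.GW

open Subgroup
open scoped ComplexConjugate
open Cfsg.Lib.Chars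

universe u

variable {G : Type u} [Group G] [Finite G]

/-- An irreducible character which is not linear trivial separates any non-trivial element of a simple group. -/
theorem separates_of_simple [IsSimpleGroup G] {χ : G → ℂ} (hχ : Cfsg.IsIrrCharacter G χ) (h1 : χ ≠ fun _ => 1)
    {z : G} (hz : z ≠ 1) : χ z ≠ χ 1 := by
  intro hzχ
  haveI := kerSubgroup_normal (isCharacter_of_irr hχ)
  rcases (inferInstance : (kerSubgroup χ (isCharacter_of_irr hχ)).Normal).eq_bot_or_eq_top with h | h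
  · exact hz (mem_bot.1 (h ▸ (mem_kerSubgroup _ _).2 hzχ))
  · have hconst : ∀ g, χ g = χ 1 := fun g => (mem_kerSubgroup _ _).1 (h ▸ mem_top g)
    haveI := Fintype.ofFinite G
    obtain ⟨n, -, hn⟩ := IsIrrCharacter.apply_one hχ
    have h2 := classInner_self_irr hχ
    rw [classInner_def, Finset.sum_congr rfl fun g _ => by rw [hconst g, hn, Complex.conj_natCast],
      Finset.sum_const, Finset.card_univ, nsmul_eq_mul, ← Nat.card_eq_fintype_card, ← mul_assoc,
      inv_mul_cancel₀ (Nat.cast_ne_zero.2 Nat.card_pos.ne'), one_mul] at h2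
    have hn1 : n * n = 1 := by exact_mod_cast h2
    exact h1 (funext fun g => by rw [hconst g, hn, Nat.eq_one_of_mul_eq_one_right hn1, Nat.cast_one])

/-- A signed sum of reciprocals of four degrees, of both signs, is at most `3` over a lower bound of the degrees. -/
theorem sum_signed_le {ι : Type*} {X : Finset ι} (hX : X.card = 4) (d : ι → ℤ) (x : ι → ℕ)
    (hd : ∀ i ∈ X, d i = 1 ∨ d i = -1) (hx : ∀ i ∈ X, 0 < x i) (hsum : ∑ i ∈ X, d i * (x i : ℤ) = 0)
    {m : ℚ} (hm : 0 < m) (hmx : ∀ i ∈ X, m ≤ x i) : ∑ i ∈ X, (d i : ℚ) / (x i : ℚ) ≤ 3 / m := by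
  classical
  obtain ⟨j, hj, hjd⟩ : ∃ j ∈ X, d j = -1 := by
    by_contra h
    push Not at h
    have hpos : ∀ i ∈ X, (0 : ℤ) < d i * (x i : ℤ) := fun i hi => by
      rw [(hd i hi).resolve_right (h i hi), one_mul]; exact_mod_cast hx i hi
    exact (Finset.sum_pos hpos (Finset.card_pos.1 (by omega))).ne' hsum
  rw [← Finset.add_sum_erase X _ hj, hjd]
  have h1 : ((-1 : ℤ) : ℚ) / (x j : ℚ) ≤ 0 := by
    push_cast
    exact div_nonpos_of_nonpos_of_nonneg (by norm_num) (by positivity)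
  have h2 : ∑ i ∈ X.erase j, (d i : ℚ) / (x i : ℚ) ≤ ∑ i ∈ X.erase j, 1 / m := by
    refine Finset.sum_le_sum fun i hi => ?_
    have hiX := Finset.mem_of_mem_erase hi
    have hxm := hmx i hiX
    rcases hd i hiX with h | h <;> rw [h] <;> push_cast
    · exact one_div_le_one_div_of_le hm hxm
    · exact le_trans (div_nonpos_of_nonpos_of_nonneg (by norm_num) (by positivity)) (by positivity)
  rw [Finset.sum_const, Finset.card_erase_of_mem hj, hX, nsmul_eq_mul] at h2
  calc _ ≤ 0 + ((4 - 1 : ℕ) : ℚ) * (1 / m) := add_le_add h1 h2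
    _ = 3 / m := by norm_num; ring

namespace Inverted

variable {F : Frame G} {p : ℕ} {Y : Subgroup G} {b d z y : G} (D : Inverted F p Y b d z y)
include D

theorem familyData (hm : Minimal G) (hmax : IsCoatom F.C) (hloc : F.LocAt p Y) :
    FamilyData F.t F.u F.O D.heis.ker D.heis.centre z p where
  tt := F.t_sq
  uu := F.u_sq
  tu := F.comm
  tne := F.t_ne_one
  tnu := F.t_ne_u
  odd := F.odd_card_O
  tcent o ho := (F.mem_C.1 (F.O_le ho)).symm
  unorm o ho := conj_mem_of_le F.U_le_normalizer_O F.u_mem_U ho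
  cover c hc := by
    have hc' : c ∈ F.O ⊔ F.U := F.C_eq hm ▸ F.mem_C.2 hc
    obtain ⟨r, hr, o, ho, rfl⟩ := (Cfsg.Lib.Coprime.mem_sup_of_le_normalizer' F.U_le_normalizer_O).1 hc'
    have key : ∀ r ∈ F.U, r * r = 1 → r * o * r ∈ F.O := fun r hr hrr => by
      have h := conj_mem_of_le F.U_le_normalizer_O hr ho
      rwa [inv_eq_of_mul_eq_one_right hrr] at h
    rcases F.mem_U.1 hr with rfl | rfl | rfl | rfl
    · exact Or.inl (by rwa [one_mul])
    · exact Or.inr (Or.inl (key _ hr F.t_sq))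
    · exact Or.inr (Or.inr (Or.inl (key _ hr F.u_sq)))
    · exact Or.inr (Or.inr (Or.inr (key _ hr F.v_sq)))
  KO := D.heis.ker_le
  AK := D.centre_le_ker
  knorm o ho k hk := D.heis.ker_normal D.W_eq ho hk
  acent a ha o ho := (D.centre_comm ha ho).eq.symm
  ainv a ha := D.centre_inv ha
  kinv o ho := D.heis.u_conj_mul_mem D.W_eq ho
  cyc := D.hyp_rot.2.2.2.2.2.1
  hp := D.heis.hp
  zA := D.z_mem_centre
  zp := D.heis.exp z D.heis.zY
  z1 := D.heis.z1
  card := D.card_ker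
  nondeg k hk hkA := D.nondeg hk hkA
  cent x hx hsp c hc := by
    rcases hsp with h | ⟨hA, h1⟩
    · exact D.cent_outside hm hmax hloc hx h hc
    · exact D.cent_centre hm hmax hA h1 hc

theorem card_CT (hm : Minimal G) : Nat.card (CT F.t) = 4 * Nat.card F.O := by
  have h := Cfsg.Lib.Coprime.card_sup_mul_card_inf (N := F.O) (H := F.U) F.U_le_normalizer_O
  have hbot : F.O ⊓ F.U = ⊥ := Cfsg.Lib.Coprime.inf_eq_bot_of_coprime (F.coprime_U F.odd_card_O).symm
  rw [hbot, card_bot, mul_one, F.card_U, ← F.C_eq hm] at h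
  rw [show Nat.card (CT F.t) = Nat.card F.C from rfl, h, mul_comm]

theorem absurd_F0 (hm : Minimal G) (hmax : IsCoatom F.C) (hloc : F.LocAt p Y) (hFix : F.FixSpec) (hCB : F.CharBound)
    (hW : F.W ≠ ⊥) : False := by
  classical
  haveI : IsSimpleGroup G := hm.simple
  letI : Fintype G := Fintype.ofFinite G
  obtain ⟨θ, ψ, hθu, hψσ, hmult, hdeg, hθz⟩ := D.exists_theta hm hloc
  obtain ⟨X, s, hX, hs, hval, -, hsum, hF0⟩ := hFix θ ψ hθu hψσ hmult
  obtain ⟨hcard, -, hρ1, hρ2, -, -, -⟩ := D.hyp_rot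
  set ρ := D.heis.ker.relIndex F.O
  have hp2 : 2 ≤ p := D.heis.hp.two_le
  have hρ3 : 3 ≤ ρ := by
    obtain ⟨k, hk⟩ := D.hyp_rot.2.1
    omega
  have hp5 : 5 ≤ p := by omega
  set θ' : G → ℂ := Cfsg.extendByZero F.O (θ : F.O → ℂ) with hθ'
  have hbound : ∀ χ ∈ X, 2 * (p - 1) * (ρ * p) ≤ deg (χ : G → ℂ) := by
    intro χ hχ
    have hne : (χ : G → ℂ) ≠ fun _ => 1 := by
      intro e
      have h := hval χ hχ 1
      rw [e, IsCharacter.apply_one_eq_deg (isCharacter_of_irr θ.2), hdeg] at h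
      have h' : (1 : ℂ) = ((s χ : ℤ) : ℂ) * (ρ : ℂ) := h
      have h'' : (1 : ℤ) = s χ * (ρ : ℤ) := by exact_mod_cast h'
      rcases hs χ hχ with h1 | h1 <;> rw [h1] at h'' <;> omega
    have h := (D.familyData hm hmax hloc).degree_bound χ.2 (θ := θ') (d := ((s χ : ℤ) : ℂ))
      (fun w hw => by
        rw [hθ', extendByZero_mem _ hw]
        exact hval χ hχ ⟨w, hw⟩)
      (fun w hw => by
        have hzw : z * w ∈ F.O := mul_mem (D.heis.le D.heis.zY) hw
        rw [hθ', extendByZero_mem _ hzw, extendByZero_mem _ hw]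
        exact hθz ⟨w, hw⟩ ⟨z * w, hzw⟩ rfl)
      (separates_of_simple χ.2 hne D.heis.z1)
    have hA : p ≤ Nat.card D.heis.centre := by
      calc p = Nat.card (zpowers z) := by rw [Nat.card_zpowers, D.heis.orderOf_z]
        _ ≤ _ := Subgroup.card_le_of_le (zpowers_le.2 D.z_mem_centre)
    rw [D.card_CT hm, hcard, D.card_ker] at h
    have hp0 : 0 < 2 * p ^ 2 := by positivity
    refine Nat.le_of_mul_le_mul_left (le_trans ?_ h) hp0
    calc 2 * p ^ 2 * (2 * (p - 1) * (ρ * p)) = (p - 1) * (4 * (ρ * (p ^ 2 * p))) := by ring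
      _ ≤ _ := by
        refine Nat.mul_le_mul_left _ (Nat.mul_le_mul_left _ (Nat.mul_le_mul_left _ ?_))
        exact Nat.mul_le_mul_left _ hA
  have hm0 : (0 : ℚ) < ((2 * (p - 1) * (ρ * p) : ℕ) : ℚ) := by
    have : 0 < 2 * (p - 1) * (ρ * p) := by
      have : 0 < p - 1 := by omega
      positivity
    exact_mod_cast this
  have hle := sum_signed_le hX s (fun χ => deg (χ : G → ℂ)) hs
    (fun χ _ => deg_irr_pos χ) hsum hm0 (fun χ hχ => by exact_mod_cast hbound χ hχ)
  rw [hF0, hdeg] at hle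
  have hlow := (hCB hW).1
  have hρq : (0 : ℚ) < (ρ : ℚ) := by exact_mod_cast (by omega : 0 < ρ)
  have hpq : (5 : ℚ) ≤ (p : ℚ) := by exact_mod_cast hp5
  have hρp : 2 * (ρ : ℚ) ≤ (p : ℚ) + 1 := by exact_mod_cast hρ2
  push_cast [Nat.cast_sub (by omega : 1 ≤ p)] at hle
  have hD : 0 < 2 * ((p : ℚ) - 1) * ((ρ : ℚ) * p) :=
    mul_pos (by linarith) (mul_pos hρq (by linarith))
  rw [div_le_div_iff₀ (by positivity) hD] at hle
  have h1 : 5 / 7 * (2 * ((p : ℚ) - 1) * ((ρ : ℚ) * p)) < 3 * (ρ : ℚ) ^ 3 := by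
    refine lt_of_lt_of_le ?_ hle
    exact mul_lt_mul_of_pos_right hlow hD
  have h2 : 5 / 7 * (2 * ((p : ℚ) - 1) * p) < 3 * (ρ : ℚ) ^ 2 := by
    refine lt_of_mul_lt_mul_right ?_ hρq.le
    calc 5 / 7 * (2 * ((p : ℚ) - 1) * p) * ρ = 5 / 7 * (2 * ((p : ℚ) - 1) * ((ρ : ℚ) * p)) := by ring
      _ < _ := h1
      _ = 3 * (ρ : ℚ) ^ 2 * ρ := by ring
  nlinarith [mul_le_mul hρp hρp (by positivity) (by positivity)]

end Inverted

namespace Frame

variable {F : Frame G}

/-- Pieces G and H: kind (s) implies the mixed kind. -/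
theorem noInverted (hm : Minimal G) (hTop : F.TopSpec) (hLoc : F.Local) (hFix : F.FixSpec)
    (hCB : F.CharBound) (hLin : F.LinearFixed) : F.NoInverted := by
  intro hW hmax p hKS
  by_contra hno
  obtain ⟨Y, b, d, z, y, D, hloc⟩ := Frame.exists_inverted_data hm hTop hLin hmax hLoc hKS hno
  exact D.absurd_F0 hm hmax hloc hFix hCB hW

end Frame

end Cfsg.Lib.GW
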