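import Cfsg.Agent.FourGroupGW.Inverted.Heis
import Cfsg.Agent.FourGroupGW.Inverted.Critical

/-!
# Kind (s) without a fixed central element of order `p`: an extraspecial group of order `p³`
-/

set_option autoImplicit false
set_option linter.unusedSectionVars false
set_option linter.style.haveILetI false

namespace Cfsg.Lib.GW

open Subgroup

universe u

variable {G : Type u} [Group G] [Finite G]

/-- Every `p`-subgroup of `O` normalised by the four-group lies, with `Y`, in a Sylow subgroup with the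
local facts. -/
def Frame.LocAt (F : Frame G) (p : ℕ) (Y : Subgroup G) : Prop :=
  ∀ P : Subgroup G, P ≤ F.O → IsPGroup p P → F.U ≤ normalizer (P : Set G) →
    ∃ S : Subgroup G, P ≤ S ∧ Y ≤ S ∧ F.LocalSpec p S

namespace Frame

variable (F : Frame G)

theorem C_le_normalizer_R (p : ℕ) : F.C ≤ normalizer (F.R p : Set G) := by
  haveI : (Cfsg.pCore p F.O).Characteristic := Cfsg.Lib.Components.pCore_characteristic
  exact F.C_le_normalizer_O.trans (Cfsg.Lib.OddP.le_normalizer_map_of_char _ |>.trans le_rfl)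

theorem isPGroup_R (p : ℕ) [Fact p.Prime] : IsPGroup p (F.R p) :=
  (Cfsg.Lib.Components.isPGroup_pCore p).map _

variable {F}

theorem u_moves_R {p : ℕ} (hKS : F.KindS p) : ∃ r ∈ F.R p, F.u * r * F.u⁻¹ ≠ r := by
  obtain ⟨hp, y, hy, hyu, -, r, hr, hyr⟩ := hKS
  by_contra hall
  push Not at hall
  refine hyr ?_
  have hnorm := F.C_le_normalizer_R p
  have h1 : F.u * (y * r * y⁻¹) * F.u⁻¹ = y * r * y⁻¹ :=
    hall _ (conj_mem_of_le hnorm (F.O_le hy) hr)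
  rw [← conj_mul, ← conj_mul, ← conj_inv, hyu, hall r hr, inv_inv] at h1
  refine (commute_of_sq (odd_orderOf F.odd_card_O hy) ?_).eq
  show y * y * r = r * (y * y)
  calc y * y * r = y * (y * r * y⁻¹) * y := by group
    _ = y * (y⁻¹ * r * y) * y := by rw [h1]
    _ = r * (y * y) := by group

theorem locAt (hmax : IsCoatom F.C) (hLoc : F.Local) {p : ℕ} (hKS : F.KindS p) {Y : Subgroup G}
    (hY : Y ≤ F.R p) : F.LocAt p Y := by
  intro P hPO hPp hPU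
  haveI : Fact p.Prime := ⟨hKS.1⟩
  haveI : Fact (Nat.Prime 2) := ⟨Nat.prime_two⟩
  obtain ⟨r, hr, hru⟩ := u_moves_R hKS
  have hPR : IsPGroup p (P ⊔ F.R p : Subgroup G) :=
    hPp.to_sup_of_normal_right' (F.isPGroup_R p) ((hPO.trans F.O_le).trans (F.C_le_normalizer_R p))
  have hU : F.U ≤ normalizer ((P ⊔ F.R p : Subgroup G) : Set G) := by
    intro x hx
    have h1 := hPU hx
    have h2 := F.C_le_normalizer_R p (F.U_le_C hx)
    refine mem_normalizer_iff.2 fun w => ?_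
    have key : ∀ (g : G), g ∈ F.U → ∀ v ∈ (P ⊔ F.R p : Subgroup G), g * v * g⁻¹ ∈ (P ⊔ F.R p : Subgroup G) := by
      intro g hg v hv
      refine (show (P ⊔ F.R p : Subgroup G) ≤
        (P ⊔ F.R p : Subgroup G).comap (MulAut.conj g).toMonoidHom from sup_le ?_ ?_) hv
      · exact fun a ha => mem_sup_left (conj_mem_of_le hPU hg ha)
      · exact fun a ha => mem_sup_right (conj_mem_of_le (F.C_le_normalizer_R p) (F.U_le_C hg) ha)
    exact ⟨fun hw => key x hx w hw, fun hw => by simpa [mul_assoc] using key x⁻¹ (inv_mem hx) _ hw⟩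
  haveI : Group.IsNilpotent F.U := F.isPGroup_U.isNilpotent
  obtain ⟨S, hS, hSU⟩ := Cfsg.Lib.Coprime.exists_invariant_sylow_ge F.U_le_normalizer_O
    (F.coprime_U F.odd_card_O) (Or.inl inferInstance) p (sup_le hPO (F.R_le p)) hPR hU
  set S' := (S : Subgroup F.O).map F.O.subtype
  refine ⟨S', le_sup_left.trans hS, hY.trans (le_sup_right.trans hS), hLoc hmax p S' hKS.1 ?_ ?_⟩
  · intro h
    rw [h, mem_bot] at hr
    exact hru (by rw [hr]; simp)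
  · exact { le := map_subtype_le _
            pgroup := S.2.map _
            sylow := by
              rw [relIndex, subgroupOf, comap_map_eq_self_of_injective F.O.subtype_injective]
              exact S.not_dvd_index
            norm := hSU
            moved := ⟨r, hS (mem_sup_right hr), hru⟩ }

/-- The extraspecial group, needing of the local facts only that the inverted elements of a `C`-invariant subgroup
of `O_p(O)` commuting with a fixed one form a cyclic group. -/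
theorem exists_heis_of {p : ℕ} (hKS : F.KindS p) (hno : ¬ F.KindMixed p)
    (hloc : ∀ Y : Subgroup G, Y ≤ F.R p → F.C ≤ normalizer (Y : Set G) → ∀ a ∈ Y, F.u * a * F.u⁻¹ = a → a ≠ 1 →
      ∃ g : G, ∀ e ∈ Y, F.u * e * F.u⁻¹ = e⁻¹ → Commute a e → e ∈ zpowers g) :
    ∃ (Y : Subgroup G) (b d z : G), Heis F p Y b d z ∧ Y ≤ F.R p ∧
      ∃ y ∈ F.O, F.u * y * F.u⁻¹ = y⁻¹ ∧ ¬ p ∣ orderOf y ∧ ∃ v ∈ Y, y * v ≠ v * y := by
  have hp := hKS.1
  haveI : Fact p.Prime := ⟨hp⟩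
  obtain ⟨r₀, hr₀, hru⟩ := u_moves_R hKS
  obtain ⟨-, y, hy, hyu, hyp, r, hr, hyr⟩ := hKS
  have hKS : F.KindS p := ⟨hp, y, hy, hyu, hyp, r, hr, hyr⟩
  set R := F.R p
  have hRp : IsPGroup p R := F.isPGroup_R p
  have hRodd : Odd (Nat.card R) := F.odd_card_O.of_dvd_nat (card_dvd_of_le (F.R_le p))
  have hyR : y ∈ normalizer (R : Set G) := F.C_le_normalizer_R p (F.O_le hy)
  have hyo : Odd (orderOf y) := odd_orderOf F.odd_card_O hy
  have hp2 : p ≠ 2 := by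
    rintro rfl
    obtain ⟨k, hk⟩ := IsPGroup.iff_card.1 hRp
    rw [hk] at hRodd
    rcases k with _ | k
    · rw [pow_zero] at hk
      rw [Subgroup.card_eq_one.1 hk, mem_bot] at hr₀
      exact hru (by rw [hr₀]; simp)
    · exact absurd hRodd (Nat.not_odd_iff_even.2 ((Nat.even_pow).2 ⟨even_two, by omega⟩))
  obtain ⟨Y, hYR, hYn, hexp, hcl, hdet⟩ := exists_exponent_class_two hp2 hRp
  have hCY : F.C ≤ normalizer (Y : Set G) := (F.C_le_normalizer_R p).trans hYn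
  have hYO : Y ≤ F.O := hYR.trans (F.R_le p)
  have hYodd : Odd (Nat.card Y) := F.odd_card_O.of_dvd_nat (card_dvd_of_le hYO)
  have hyY : y ∈ normalizer (Y : Set G) := hCY (F.O_le hy)
  have huC : F.u ∈ F.C := F.U_le_C F.u_mem_U
  have hycop : (orderOf y).Coprime p := ((Nat.Prime.coprime_iff_not_dvd hp).2 hyp).symm
  have hymove : ∃ v ∈ Y, y * v ≠ v * y := by
    by_contra h
    push Not at h
    refine hyr (mem_centralizer_iff.1 (hdet y hyR hycop (mem_centralizer_iff.2 fun v hv => (h v hv).symm)) r hr).symm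
  -- a fixed element moved by `y`
  obtain ⟨c₀, hc₀Y, hc₀u, hyc₀⟩ : ∃ c ∈ Y, F.u * c * F.u⁻¹ = c ∧ y * c ≠ c * y := by
    by_contra h
    push Not at h
    obtain ⟨v, hv, hyv⟩ := hymove
    refine hyv (mem_centralizer_iff.1 (rigid hYodd F.u_sq (hCY huC) hyY hyo ?_ hyu h) v hv).symm
    obtain ⟨k, hk⟩ := IsPGroup.iff_card.1 (hRp.to_le hYR)
    rw [hk]
    exact hycop.pow_right k
  -- inverted elements commuting with a fixed one
  have hcyc : ∀ a ∈ Y, F.u * a * F.u⁻¹ = a → a ≠ 1 → ∀ e ∈ Y, ∀ f ∈ Y, F.u * e * F.u⁻¹ = e⁻¹ →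
      F.u * f * F.u⁻¹ = f⁻¹ → Commute a e → Commute a f → e ≠ 1 → f ∈ zpowers e := by
    intro a ha hau ha1 e he f hf heu hfu hae haf he1
    obtain ⟨g, hg⟩ := hloc Y hYR hCY a ha hau ha1
    exact mem_zpowers_of_mem_cyclic hp (hg e he heu hae) (hg f hf hfu haf) (hexp e he) (hexp f hf) he1
  -- an inverted element of the centre of `R` in `Y`
  obtain ⟨z₀, hz₀Y, hz₀1, hz₀R⟩ : ∃ z₀ ∈ Y, z₀ ≠ 1 ∧ ∀ v ∈ R, z₀ * v = v * z₀ := by
    haveI := hRp.isNilpotent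
    haveI : (Y.subgroupOf R).Normal := by
      exact (normal_subgroupOf_iff_le_normalizer hYR).2 (le_normalizer.trans hYn)
    have hne : Y.subgroupOf R ≠ ⊥ := by
      intro h
      have : (⟨c₀, hYR hc₀Y⟩ : R) ∈ Y.subgroupOf R := hc₀Y
      rw [h, mem_bot] at this
      exact hyc₀ (by rw [show c₀ = 1 from congrArg Subtype.val this]; simp)
    haveI : Nontrivial (Y.subgroupOf R ⊓ center R : Subgroup R) :=
      (nontrivial_iff_ne_bot _).2 (Cfsg.Lib.Coprime.inf_center_ne_bot _ hne)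
    obtain ⟨⟨w, hw⟩, hw1⟩ := exists_ne (1 : (Y.subgroupOf R ⊓ center R : Subgroup R))
    exact ⟨w, hw.1, fun h => hw1 (Subtype.ext (Subtype.ext h)),
      fun v hv => congrArg Subtype.val (mem_center_iff.1 hw.2 ⟨v, hv⟩).symm⟩
  have hzR : ∀ w ∈ R, (∀ v ∈ R, w * v = v * w) → F.u * w * F.u⁻¹ = w⁻¹ := by
    intro w hw hwc
    set c := w * (F.u * w * F.u⁻¹) with hc
    have huw : F.u * w * F.u⁻¹ ∈ R := conj_mem_of_le (F.C_le_normalizer_R p) huC hw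
    have hcR : c ∈ R := mul_mem hw huw
    have hcu : F.u * c * F.u⁻¹ = c := by
      rw [hc, ← conj_mul, hwc _ huw]
      congr 1
      calc F.u * (F.u * w * F.u⁻¹) * F.u⁻¹ = (F.u * F.u) * w * (F.u * F.u)⁻¹ := by group
        _ = w := by rw [F.u_sq]; simp
    have hcc : ∀ v ∈ R, c * v = v * c := by
      intro v hv
      have h1 : Commute w v := hwc v hv
      refine h1.mul_left ?_
      have h2 := (show Commute w (F.u⁻¹ * v * F.u) from hwc _ (by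
        simpa using conj_mem_of_le (F.C_le_normalizer_R p) (inv_mem huC) hv)).map (MulAut.conj F.u).toMonoidHom
      simpa [mul_assoc] using h2
    by_contra hne
    have hc1 : c ≠ 1 := fun h => hne (eq_inv_of_mul_eq_one_right h)
    obtain ⟨k, hk⟩ := IsPGroup.iff_orderOf.1 hRp ⟨c, hcR⟩
    rw [Subgroup.orderOf_mk] at hk
    obtain ⟨m, hm⟩ : ∃ m, k = m + 1 := ⟨k - 1, by
      rcases k with _ | k
      · exact absurd (orderOf_eq_one_iff.1 (by simpa using hk)) hc1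
      · rfl⟩
    refine hno ⟨hKS, c ^ p ^ m, pow_mem hcR _, ?_, by rw [← conj_pow, hcu],
      fun v hv => ((show Commute c v from hcc v hv).pow_left _).eq⟩
    rw [orderOf_pow' _ (pow_ne_zero _ hp.ne_zero), hk, hm, pow_succ,
      Nat.gcd_eq_right (Dvd.intro _ rfl), Nat.mul_div_cancel_left _ (pow_pos hp.pos _)]
  have hz₀u := hzR z₀ (hYR hz₀Y) hz₀R
  have hyz₀ : Commute y z₀ := commute_of_conj_inverted hyo hyu hz₀u (hzR _
    (conj_mem_of_le (F.C_le_normalizer_R p) (F.O_le hy) (hYR hz₀Y)) fun v hv => by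
      have h := (show Commute z₀ (y⁻¹ * v * y) from hz₀R _ (by
        simpa using conj_mem_of_le (F.C_le_normalizer_R p) (inv_mem (F.O_le hy)) hv)).map
          (MulAut.conj y).toMonoidHom
      simpa [mul_assoc] using h.eq)
  -- no fixed element of `Y` is central in `Y`
  have hfree : ∀ a ∈ Y, F.u * a * F.u⁻¹ = a → (∀ v ∈ Y, Commute a v) → a = 1 := by
    intro a ha hau hac
    by_contra ha1
    -- then `u` acts trivially modulo `⟨z₀⟩`, so `y` centralises `Y`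
    obtain ⟨a', ha', b', hb', h1, h2, e⟩ :=
      exists_fixed_mul_inverted hYodd F.u_sq (hCY huC) (conj_mem_of_le hCY (F.O_le hy) hc₀Y)
    have hbz : b' ∈ zpowers z₀ := hcyc a ha hau ha1 z₀ hz₀Y b' hb' hz₀u h2 (hac _ hz₀Y) (hac _ hb') hz₀1
    have hby : Commute y b' := by
      obtain ⟨i, rfl⟩ := mem_zpowers_iff.1 hbz
      exact hyz₀.zpow_right i
    refine hyc₀ (commute_of_sq hyo ?_).eq
    have h3 : F.u * (y * c₀ * y⁻¹) * F.u⁻¹ = a' * b'⁻¹ := by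
      rw [e, ← conj_mul, h1, h2]
    rw [← conj_mul, ← conj_mul, ← conj_inv, hyu, hc₀u, inv_inv] at h3
    have h4 : y * y * c₀ * (y * y)⁻¹ = c₀ * (b' * b') := by
      calc y * y * c₀ * (y * y)⁻¹ = y * (y * c₀ * y⁻¹) * y⁻¹ := by group
        _ = y * (a' * b'⁻¹ * (b' * b')) * y⁻¹ := by rw [e]; group
        _ = y * (y⁻¹ * c₀ * y * (b' * b')) * y⁻¹ := by rw [h3]
        _ = c₀ * (y * (b' * b') * y⁻¹) := by group
        _ = c₀ * (b' * b') := by rw [(hby.mul_right hby).eq, mul_inv_cancel_right]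
    have h5 : Commute (y * y) (b' * b') :=
      ((hby.mul_left hby).mul_right (hby.mul_left hby))
    have h6 : ∀ n : ℕ, (y * y) ^ n * c₀ * ((y * y) ^ n)⁻¹ = c₀ * (b' * b') ^ n := by
      intro n
      induction n with
      | zero => simp
      | succ n ih =>
        have aux : ∀ g h c : G, g * h * c * (g * h)⁻¹ = g * (h * c * h⁻¹) * g⁻¹ := fun g h c => by group
        rw [pow_succ', aux, ih, ← conj_mul, h4,
          (h5.pow_right n).eq, mul_inv_cancel_right, mul_assoc, ← pow_succ']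
    have h7 : (b' * b') ^ orderOf y = 1 := by
      have := h6 (orderOf y)
      rw [← pow_two, ← pow_mul, mul_comm, pow_mul, pow_orderOf_eq_one, one_pow] at this
      simpa using this.symm
    have h8 : b' * b' = 1 := by
      have h9 : (b' * b') ^ p = 1 := hexp _ (mul_mem hb' hb')
      have := pow_gcd_eq_one.2 ⟨h7, h9⟩
      rwa [hycop.gcd_eq_one, pow_one] at this
    rw [h8, mul_one, mul_inv_eq_iff_eq_mul] at h4
    exact h4
  have hc₀1 : c₀ ≠ 1 := fun h => hyc₀ (by rw [h]; simp)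
  have hinvc : ∀ w ∈ Y, (∀ v ∈ Y, Commute w v) → F.u * w * F.u⁻¹ = w⁻¹ := by
    intro w hw hwc
    obtain ⟨a, ha, e, he, h1, h2, rfl⟩ := exists_fixed_mul_inverted hYodd F.u_sq (hCY huC) hw
    have huY : ∀ v ∈ Y, Commute (F.u * (a * e) * F.u⁻¹) v := fun v hv => by
      have h := (hwc (F.u⁻¹ * v * F.u) (by simpa using conj_mem_of_le hCY (inv_mem huC) hv)).map
        (MulAut.conj F.u).toMonoidHom
      simpa [mul_assoc] using h
    have hee : ∀ v ∈ Y, Commute (e * e) v := fun v hv => by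
      have h := ((huY v hv).inv_left).mul_left (hwc v hv)
      rw [← conj_mul, h1, h2] at h
      simpa [mul_assoc] using h
    have hev : ∀ v ∈ Y, Commute e v := fun v hv => commute_of_sq (odd_orderOf hYodd he) (hee v hv)
    have hav : ∀ v ∈ Y, Commute a v := fun v hv => by
      have h := (hwc v hv).mul_left ((hev v hv).inv_left)
      rwa [mul_inv_cancel_right] at h
    rw [hfree a ha h1 hav, one_mul, h2]
  have hz₀c : ∀ v ∈ Y, Commute z₀ v := fun v hv => hz₀R v (hYR hv)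
  have hZ : ∀ w ∈ Y, (∀ v ∈ Y, Commute w v) → w ∈ zpowers z₀ := fun w hw hwc =>
    hcyc c₀ hc₀Y hc₀u hc₀1 z₀ hz₀Y w hw hz₀u (hinvc w hw hwc) (hz₀c c₀ hc₀Y).symm (hwc c₀ hc₀Y).symm hz₀1
  -- commutators lie in `⟨z₀⟩`
  have hcomm : ∀ a ∈ Y, ∀ e ∈ Y, a * e * a⁻¹ * e⁻¹ ∈ zpowers z₀ := fun a ha e he =>
    hZ _ (mul_mem (mul_mem (mul_mem ha he) (inv_mem ha)) (inv_mem he)) fun v hv => hcl a ha e he v hv
  have hfixcomm : ∀ a ∈ Y, ∀ e ∈ Y, F.u * a * F.u⁻¹ = a → F.u * e * F.u⁻¹ = e → Commute a e := by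
    intro a ha e he hau heu
    have h1 := mem_center_of_comm hau heu
    obtain ⟨i, hi⟩ := mem_zpowers_iff.1 (hcomm a ha e he)
    have h2 : F.u * (a * e * a⁻¹ * e⁻¹) * F.u⁻¹ = (a * e * a⁻¹ * e⁻¹)⁻¹ := by
      rw [← hi, ← conj_zpow, hz₀u, _root_.inv_zpow]
    have := eq_one_of_fixed_inverted (odd_orderOf hYodd (mul_mem (mul_mem (mul_mem ha he) (inv_mem ha))
      (inv_mem he))) h1 h2
    exact mul_inv_eq_iff_eq_mul.1 (mul_inv_eq_one.1 this)
  obtain ⟨d₀, hd₀Y, hd₀u, hd₀z⟩ : ∃ e ∈ Y, F.u * e * F.u⁻¹ = e⁻¹ ∧ e ∉ zpowers z₀ := by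
    by_contra h
    push Not at h
    refine hc₀1 (hfree c₀ hc₀Y hc₀u fun v hv => ?_)
    obtain ⟨a, ha, e, he, h1, h2, rfl⟩ := exists_fixed_mul_inverted hYodd F.u_sq (hCY huC) hv
    obtain ⟨i, rfl⟩ := mem_zpowers_iff.1 (h e he h2)
    exact (hfixcomm c₀ hc₀Y a ha hc₀u h1).mul_right (((hz₀c c₀ hc₀Y).zpow_left i).symm)
  set z := c₀ * d₀ * c₀⁻¹ * d₀⁻¹ with hz
  have hzY : z ∈ Y := mul_mem (mul_mem (mul_mem hc₀Y hd₀Y) (inv_mem hc₀Y)) (inv_mem hd₀Y)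
  have hinj : ∀ a ∈ Y, F.u * a * F.u⁻¹ = a → Commute a d₀ → a = 1 := by
    intro a ha hau had
    by_contra ha1
    exact hd₀z (hcyc a ha hau ha1 z₀ hz₀Y d₀ hd₀Y hz₀u hd₀u (hz₀c a ha).symm had hz₀1)
  have hz1 : z ≠ 1 := fun h => hc₀1 (hinj c₀ hc₀Y hc₀u (mul_inv_eq_iff_eq_mul.1 (mul_inv_eq_one.1 h)))
  have hzz₀ : z ∈ zpowers z₀ := hcomm c₀ hc₀Y d₀ hd₀Y
  have hzc : ∀ v ∈ Y, Commute z v := fun v hv => hcl c₀ hc₀Y d₀ hd₀Y v hv
  have hz₀z : z₀ ∈ zpowers z :=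
    mem_zpowers_of_mem_cyclic hp hzz₀ (mem_zpowers z₀) (hexp z hzY) (hexp z₀ hz₀Y) hz1
  have hzpow : ∀ w ∈ zpowers z₀, ∃ k : ℕ, w = z ^ k := fun w hw => by
    obtain ⟨k, hk⟩ := mem_powers_iff_mem_zpowers.2 ((zpowers_le.2 hz₀z) hw)
    exact ⟨k, hk.symm⟩
  have hbd : ∀ i : ℕ, c₀ ^ i * d₀ * (c₀ ^ i)⁻¹ * d₀⁻¹ = z ^ i := by
    intro i
    induction i with
    | zero => simp
    | succ i ih =>
      rw [pow_succ', show c₀ * c₀ ^ i * d₀ * (c₀ * c₀ ^ i)⁻¹ * d₀⁻¹ =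
        c₀ * (c₀ ^ i * d₀ * (c₀ ^ i)⁻¹ * d₀⁻¹) * c₀⁻¹ * (c₀ * d₀ * c₀⁻¹ * d₀⁻¹) by group, ih,
        ← ((hzc c₀ hc₀Y).pow_left i).eq, mul_inv_cancel_right, ← hz, ← pow_succ]
  have hfix : ∀ a ∈ Y, F.u * a * F.u⁻¹ = a → ∃ i : ℕ, a = c₀ ^ i := by
    intro a ha hau
    obtain ⟨j, hj⟩ := hzpow _ (hcomm a ha d₀ hd₀Y)
    refine ⟨j, ?_⟩
    have h1 : c₀ ^ j * d₀ * (c₀ ^ j)⁻¹ = a * d₀ * a⁻¹ := mul_right_cancel (b := d₀⁻¹) (by rw [hbd, hj])
    have h2 := hinj (a⁻¹ * c₀ ^ j) (mul_mem (inv_mem ha) (pow_mem hc₀Y j))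
      (by rw [← conj_mul, ← conj_inv, hau, ← conj_pow, hc₀u]) (by
        show a⁻¹ * c₀ ^ j * d₀ = d₀ * (a⁻¹ * c₀ ^ j)
        calc a⁻¹ * c₀ ^ j * d₀ = a⁻¹ * (c₀ ^ j * d₀ * (c₀ ^ j)⁻¹) * c₀ ^ j := by group
          _ = a⁻¹ * (a * d₀ * a⁻¹) * c₀ ^ j := by rw [h1]
          _ = _ := by group)
    exact inv_mul_eq_one.1 h2
  refine ⟨Y, c₀, d₀, z, ⟨hp, hp2, hYO, hCY, hc₀Y, hd₀Y, hzY, hc₀u, hd₀u, hinvc z hzY hzc, hexp, hz1, hzc, rfl,
    fun v hv => ?_⟩, hYR, y, hy, hyu, hyp, hymove⟩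
  obtain ⟨a, ha, e, he, h1, h2, rfl⟩ := exists_fixed_mul_inverted hYodd F.u_sq (hCY huC) hv
  obtain ⟨i, rfl⟩ := hfix a ha h1
  obtain ⟨j, hj⟩ := hzpow _ (hcomm c₀ hc₀Y e he)
  -- `e` and `d₀ ^ j` differ by an element of `⟨z⟩`
  have hed : Commute e d₀ := by
    refine mul_inv_eq_iff_eq_mul.1 (mul_inv_eq_one.1 ?_)
    have hco := hcomm e he d₀ hd₀Y
    obtain ⟨n, hn⟩ := mem_zpowers_iff.1 hco
    refine eq_one_of_fixed_inverted (s := F.u) (odd_orderOf hYodd (mul_mem (mul_mem (mul_mem he hd₀Y)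
      (inv_mem he)) (inv_mem hd₀Y))) ?_ (by rw [← hn, ← conj_zpow, hz₀u, _root_.inv_zpow])
    rw [← conj_mul, ← conj_mul, ← conj_mul, ← conj_inv, ← conj_inv, h2, hd₀u, inv_inv, inv_inv]
    have hq : Commute (e * d₀ * e⁻¹ * d₀⁻¹) (d₀ * e) := hcl e he d₀ hd₀Y _ (mul_mem hd₀Y he)
    calc e⁻¹ * d₀⁻¹ * e * d₀ = (d₀ * e)⁻¹ * ((e * d₀ * e⁻¹ * d₀⁻¹) * (d₀ * e)) := by group
      _ = e * d₀ * e⁻¹ * d₀⁻¹ := by rw [hq.eq, inv_mul_cancel_left]
  set f := e * (d₀ ^ j)⁻¹ with hf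
  have hfY : f ∈ Y := mul_mem he (inv_mem (pow_mem hd₀Y j))
  have hfu : F.u * f * F.u⁻¹ = f⁻¹ := by
    rw [hf, ← conj_mul, ← conj_inv, ← conj_pow, h2, hd₀u, inv_pow, inv_inv, mul_inv_rev, inv_inv,
      (hed.pow_right j).inv_left.eq]
  have hcd : ∀ n : ℕ, c₀ * d₀ ^ n * c₀⁻¹ = z ^ n * d₀ ^ n := by
    intro n
    rw [← conj_pow, show c₀ * d₀ * c₀⁻¹ = z * d₀ by rw [hz]; group, (hzc d₀ hd₀Y).mul_pow]
  have hcf : Commute c₀ f := by
    refine mul_inv_eq_iff_eq_mul.1 ?_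
    rw [hf, ← conj_mul, ← conj_inv, hcd, show c₀ * e * c₀⁻¹ = z ^ j * e by rw [← hj]; group, mul_inv_rev,
      ((hzc e he).pow_left j).eq]
    have hzd : (z ^ j)⁻¹ * e = e * (z ^ j)⁻¹ := ((hzc e he).pow_left j).inv_left.eq
    calc e * z ^ j * ((d₀ ^ j)⁻¹ * (z ^ j)⁻¹) = e * (z ^ j * (d₀ ^ j)⁻¹) * (z ^ j)⁻¹ := by group
      _ = e * ((d₀ ^ j)⁻¹ * z ^ j) * (z ^ j)⁻¹ := by
          rw [(((hzc d₀ hd₀Y).pow_left j).pow_right j).inv_right.eq]
      _ = e * (d₀ ^ j)⁻¹ := by group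
  obtain ⟨k, hk⟩ := hzpow f (hcyc c₀ hc₀Y hc₀u hc₀1 z₀ hz₀Y f hfY hz₀u hfu (hz₀c c₀ hc₀Y).symm hcf hz₀1)
  refine ⟨i, j, k, ?_⟩
  rw [mul_assoc, ((hzc (d₀ ^ j) (pow_mem hd₀Y j)).pow_left k).symm.eq, ← hk, hf, inv_mul_cancel_right]

theorem exists_heis (hmax : IsCoatom F.C) (hLoc : F.Local) {p : ℕ} (hKS : F.KindS p)
    (hno : ¬ F.KindMixed p) :
    ∃ (Y : Subgroup G) (b d z : G), Heis F p Y b d z ∧ F.LocAt p Y ∧
      ∃ y ∈ F.O, F.u * y * F.u⁻¹ = y⁻¹ ∧ ¬ p ∣ orderOf y ∧ ∃ v ∈ Y, y * v ≠ v * y := by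
  haveI : Fact p.Prime := ⟨hKS.1⟩
  obtain ⟨Y, b, d, z, H, hYR, hy⟩ := exists_heis_of hKS hno fun Y hYR hCY a ha hau ha1 => by
    obtain ⟨S, -, hYS, hLS⟩ := locAt hmax hLoc hKS hYR Y (hYR.trans (F.R_le p)) ((F.isPGroup_R p).to_le hYR)
      (F.U_le_C.trans hCY)
    obtain ⟨g, -, -, hg⟩ := hLS.inverted_cyclic (zpowers a)
      (zpowers_le.2 (F.mem_W.2 ⟨F.R_le p (hYR ha), (mul_inv_eq_iff_eq_mul.1 hau).symm⟩)) (zpowers_le.2 (hYS ha))
      (zpowers_ne_bot.2 ha1)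
    refine ⟨g, fun e he heu hae => hg e ⟨hYS he, mem_centralizer_iff.2 fun x hx => ?_⟩ heu⟩
    obtain ⟨i, rfl⟩ := mem_zpowers_iff.1 hx
    exact (hae.zpow_left i).eq
  exact ⟨Y, b, d, z, H, locAt hmax hLoc hKS hYR, hy⟩

end Frame

end Cfsg.Lib.GW
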