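import Cfsg.Agent.FourGroupGW.Inverted.Matrices
import Cfsg.Agent.FourGroupGW.Inverted.Setup
import Cfsg.Agent.OddLocal.GLTwoOdd

/-!
# `W` is generated by `b`, and `z` is central in `O`
-/

set_option autoImplicit false
set_option linter.unusedSectionVars false
set_option linter.style.haveILetI false

namespace Cfsg.Lib.GW

open Subgroup Matrix

universe u

variable {G : Type u} [Group G] [Finite G]

namespace Heis

variable {F : Frame G} {p : ℕ} {Y : Subgroup G} {b d z : G} (H : Heis F p Y b d z)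

include H in
/-- The representation of `O` on `Y` modulo its centre. -/
noncomputable def rot : F.O →* GL (Fin 2) (ZMod p) :=
  MonoidHom.toHomUnits
    { toFun := fun o : F.O => H.mat (o : G)
      map_one' := by simpa using H.mat_one
      map_mul' := fun o o' => H.mat_mul (F.O_le o.2) (F.O_le o'.2) }

theorem rot_val (o : F.O) : (H.rot o : Matrix (Fin 2) (Fin 2) (ZMod p)) = H.mat (o : G) := rfl

include H

theorem finite_range : Finite H.rot.range := Set.finite_range H.rot |>.to_subtype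

/-- On `W` the two eigenvalues agree. -/
theorem diag_eq {y : G} (hy : y ∈ F.O) (hyu : F.u * y * F.u⁻¹ = y⁻¹) (hyp : ¬ p ∣ orderOf y)
    (hmove : ∃ v ∈ Y, y * v ≠ v * y) {w : G} (hw : w ∈ F.W) : H.mat w 0 0 = H.mat w 1 1 := by
  haveI : Fact p.Prime := ⟨H.hp⟩
  haveI := H.finite_range
  obtain ⟨hwO, hwu⟩ := F.mem_W.1 hw
  obtain ⟨hc, he⟩ := H.offdiag_ne_zero hy hyu hyp hmove
  obtain ⟨w01, w10⟩ := H.mat_fixed hwO (mul_inv_eq_iff_eq_mul.2 hwu.symm)
  by_contra hne
  have hodd : Odd (Nat.card H.rot.range) := F.odd_card_O.of_dvd_nat (card_range_dvd _)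
  haveI : Group.IsSolvable F.O := Cfsg.Agent.PF.isSolvable_of_odd _ F.odd_card_O
  haveI : Group.IsSolvable H.rot.range :=
    Group.isSolvable_of_surjective (f := H.rot.rangeRestrict) H.rot.rangeRestrict_surjective
  have hirr : ∀ v : Fin 2 → ZMod p, v ≠ 0 → ∃ g ∈ H.rot.range,
      (g : Matrix (Fin 2) (Fin 2) (ZMod p)).mulVec v ∉ Submodule.span (ZMod p) {v} := by
    intro v hv
    by_contra hall
    push Not at hall
    obtain ⟨r, hr⟩ := Submodule.mem_span_singleton.1 (hall _ ⟨⟨w, hwO⟩, rfl⟩)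
    obtain ⟨r', hr'⟩ := Submodule.mem_span_singleton.1 (hall _ ⟨⟨y, hy⟩, rfl⟩)
    have w0 := congrFun hr 0
    have w1 := congrFun hr 1
    have y0 := congrFun hr' 0
    have y1 := congrFun hr' 1
    simp [rot_val, Matrix.mulVec, dotProduct, Fin.sum_univ_two, w01, w10] at w0 w1 y0 y1
    have hprod : v 0 * v 1 = 0 := by
      rcases w0 with e0 | e0
      · rcases w1 with e1 | e1
        · exact absurd (e0.symm.trans e1) hne
        · rw [e1, mul_zero]
      · rw [e0, zero_mul]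
    rcases mul_eq_zero.1 hprod with h | h
    · have h1 : H.mat y 0 1 * v 1 = 0 := by linear_combination -y0 + (r' - H.mat y 0 0) * h
      have h2 := (mul_eq_zero.1 h1).resolve_left hc
      exact hv (funext fun i => by fin_cases i <;> assumption)
    · have h1 : H.mat y 1 0 * v 0 = 0 := by linear_combination -y1 + (r' - H.mat y 1 1) * h
      have h2 := (mul_eq_zero.1 h1).resolve_left he
      exact hv (funext fun i => by fin_cases i <;> assumption)
  have hcomm := Cfsg.Lib.LinearTwo.commute_of_not_dvd H.p2 H.rot.range hodd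
    (Cfsg.Lib.LinearTwo.not_dvd_card H.p2 H.rot.range hodd hirr) ⟨_, ⟨w, hwO⟩, rfl⟩ ⟨_, ⟨y, hy⟩, rfl⟩
  have h01 := congrArg (fun g : H.rot.range => ((g : GL (Fin 2) (ZMod p)) : Matrix (Fin 2) (Fin 2) (ZMod p)) 0 1) hcomm
  simp [rot_val, Matrix.mul_apply, Fin.sum_univ_two, w01, w10] at h01
  exact hne (mul_right_cancel₀ hc (h01.trans (mul_comm _ _)))

/-- `W` acts trivially on `Y` modulo its centre. -/
theorem mat_W (hm : Minimal G) (hLin : F.LinearFixed) (hL : F.LocAt p Y) {y : G} (hy : y ∈ F.O)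
    (hyu : F.u * y * F.u⁻¹ = y⁻¹) (hyp : ¬ p ∣ orderOf y) (hmove : ∃ v ∈ Y, y * v ≠ v * y) :
    ∀ w ∈ F.W, H.mat w = 1 := by
  haveI : Fact p.Prime := ⟨H.hp⟩
  have hscal : ∀ w ∈ F.W, H.mat w = H.mat w 0 0 • 1 := fun w hw => by
    obtain ⟨hwO, hwu⟩ := F.mem_W.1 hw
    obtain ⟨h01, h10⟩ := H.mat_fixed hwO (mul_inv_eq_iff_eq_mul.2 hwu.symm)
    have hd := H.diag_eq hy hyu hyp hmove hw
    ext i j; fin_cases i <;> fin_cases j <;> simp [h01, h10, hd]
  obtain ⟨ι, hι⟩ := exists_injective_linear (ZMod p)ˣ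
  set θ : F.O →* ℂˣ := ι.comp (Matrix.GeneralLinearGroup.det.comp H.rot) with hθ
  have hθeq : ∀ a a' : F.O, (H.mat (a : G)).det = (H.mat (a' : G)).det → θ a = θ a' := fun a a' h => by
    show ι (Matrix.GeneralLinearGroup.det (H.rot a)) = ι (Matrix.GeneralLinearGroup.det (H.rot a'))
    exact congrArg ι (Units.ext h)
  have hθW : ∀ a : F.O, (a : G) ∈ F.W → θ a = 1 := by
    refine hLin θ (fun a a' h => hθeq _ _ ?_) fun a a' ha h => hθeq _ _ ?_
    · rw [← h, H.mat_u (F.O_le a.2), Matrix.det_fin_two_of, Matrix.det_fin_two]; ring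
    -- `σ` agrees on `W` with an element centralising `b`
    have hYU : F.U ≤ normalizer (Y : Set G) := F.U_le_C.trans H.norm
    have hYp : IsPGroup p Y := by
      refine fun v => ⟨1, Subtype.ext ?_⟩
      simpa using H.exp v v.2
    obtain ⟨S, -, hYS, hLS⟩ := hL Y H.le hYp hYU
    obtain ⟨-, g, hgb, hgN, hgt⟩ := hLS.fusing_centralizer (zpowers b) (zpowers_le.2 H.b_mem_W)
      (hYp.to_le (zpowers_le.2 H.bY)) (zpowers_ne_bot.2 H.b1)
    obtain ⟨hc, -⟩ := F.fusing_element hm hgN hgt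
    set c := F.σ⁻¹ * g
    set a₁ := c⁻¹ * (a : G) * c
    have hgb' : g * b * g⁻¹ = b :=
      mul_inv_eq_iff_eq_mul.2 (mem_centralizer_iff.1 hgb b (mem_zpowers b)).symm
    have hcC : c ∈ F.C := F.mem_C.2 (F.mem_centralizer_U.1 hc).1
    have ha₁ : a₁ ∈ F.W := by
      obtain ⟨h1, h2⟩ := (F.mem_W_iff hm).1 ha
      refine (F.mem_W_iff hm).2 ⟨mul_mem (mul_mem (inv_mem hc) h1) hc, ?_⟩
      rwa [show a₁ = MulAut.conj c⁻¹ (a : G) by simp [a₁], MulEquiv.orderOf_eq]
    have e : (a' : G) = g * a₁ * g⁻¹ := by rw [← h]; simp only [a₁, c]; group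
    have ha' : (a' : G) ∈ F.W := h ▸ (mem_normalizer_iff.1 (F.σ_mem_normalizer_W hm) _).1 ha
    have hb₁ : a₁ * b * a₁⁻¹ ∈ Y := H.mem_Y_conj (F.O_le (F.W_le ha₁)) H.bY
    have hb₁u : F.u * (a₁ * b * a₁⁻¹) * F.u⁻¹ = a₁ * b * a₁⁻¹ := by
      rw [← conj_mul, ← conj_mul, ← conj_inv, H.bfix, mul_inv_eq_iff_eq_mul.2 (F.mem_W.1 ha₁).2.symm]
    obtain ⟨i, hi⟩ := H.fixed_eq hb₁ hb₁u
    have hsame : (a' : G) * b * (a' : G)⁻¹ = a₁ * b * a₁⁻¹ := by
      rw [e, show g * a₁ * g⁻¹ * b * (g * a₁ * g⁻¹)⁻¹ = g * (a₁ * (g⁻¹ * b * g) * a₁⁻¹) * g⁻¹ by group,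
        show g⁻¹ * b * g = b by
          calc g⁻¹ * b * g = g⁻¹ * (g * b * g⁻¹) * g := by rw [hgb']
            _ = b := by group,
        hi, ← conj_pow, hgb']
    have h00 : H.mat (a' : G) 0 0 = H.mat a₁ 0 0 := by
      show co Y p b d z ((a' : G) * b * (a' : G)⁻¹) 0 = co Y p b d z (a₁ * b * a₁⁻¹) 0
      rw [hsame]
    have h11 : H.mat a₁ = H.mat (a : G) := by
      rw [show a₁ = c⁻¹ * ((a : G) * c) by simp only [a₁]; group,
        H.mat_mul (inv_mem hcC) (mul_mem (F.O_le a.2) hcC), H.mat_mul (F.O_le a.2) hcC, hscal _ ha,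
        Matrix.smul_mul, Matrix.one_mul, Matrix.mul_smul, H.mat_inv_mul hcC]
    rw [hscal _ ha', h00, h11, ← hscal _ ha]
  intro w hw
  have h1 := hθW ⟨w, F.W_le hw⟩ hw
  have hdet : (H.mat w).det = 1 :=
    congrArg Units.val (hι (h1.trans (map_one ι).symm))
  rw [hscal w hw, Matrix.det_smul, Matrix.det_one, mul_one, Fintype.card_fin] at hdet
  have hpow : H.mat w ^ orderOf w = 1 := by
    rw [← H.mat_pow (F.O_le (F.W_le hw)), pow_orderOf_eq_one, H.mat_one]
  rw [hscal w hw, smul_pow, one_pow] at hpow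
  have h00 := congrFun (congrFun hpow 0) 0
  simp at h00
  obtain ⟨k, hk⟩ := Frame.odd_orderOf F.odd_card_W hw
  rw [hk, pow_succ, pow_mul, hdet, one_pow, one_mul] at h00
  rw [hscal w hw, h00, one_smul]

/-- `W` is generated by `b`. -/
theorem W_eq (hm : Minimal G) (hTop : F.TopSpec) (hLin : F.LinearFixed) (hL : F.LocAt p Y) {y : G}
    (hy : y ∈ F.O) (hyu : F.u * y * F.u⁻¹ = y⁻¹) (hyp : ¬ p ∣ orderOf y)
    (hmove : ∃ v ∈ Y, y * v ≠ v * y) : F.W = zpowers b := by
  haveI : Fact p.Prime := ⟨H.hp⟩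
  have hWm := H.mat_W hm hLin hL hy hyu hyp hmove
  have hYU : F.U ≤ normalizer (Y : Set G) := F.U_le_C.trans H.norm
  have hYp : IsPGroup p Y := by
    refine fun v => ⟨1, Subtype.ext ?_⟩
    simpa using H.exp v v.2
  have hWU : ∀ w ∈ F.W, ∀ x ∈ F.U, Commute x w := fun w hw x hx =>
    mem_centralizer_iff.1 (F.W_le_centralizer_U hw) x hx
  -- every element of `W` agrees on `Y` with a power of `b`
  have hdec : ∀ w ∈ F.W, ∃ k : ℕ, (b ^ k)⁻¹ * w ∈ F.W ⊓ centralizer (Y : Set G) := by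
    intro w hw
    obtain ⟨hwO, hwu⟩ := F.mem_W.1 hw
    have hwC := F.O_le hwO
    have hwu' : F.u * w * F.u⁻¹ = w := mul_inv_eq_iff_eq_mul.2 hwu.symm
    have hwb : w * b * w⁻¹ = b := by
      have hu : F.u * (w * b * w⁻¹) * F.u⁻¹ = w * b * w⁻¹ := by
        rw [← conj_mul, ← conj_mul, ← conj_inv, H.bfix, hwu']
      obtain ⟨i, hi⟩ := H.fixed_eq (H.mem_Y_conj hwC H.bY) hu
      have h := congrFun (H.mat_mulVec hwC H.bY) 0
      rw [hWm w hw, Matrix.one_mulVec, hi, H.co_pow H.bY, H.co_b] at h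
      simp at h
      rw [hi]
      have hcast : ((1 : ℕ) : ZMod p) = i := by simpa using h
      rw [ZMod.natCast_eq_natCast_iff] at hcast
      rw [← pow_one b, ← pow_mul, one_mul, pow_eq_pow_iff_modEq, H.orderOf_b]
      exact hcast.symm
    obtain ⟨k, hk⟩ := mem_powers_iff_mem_zpowers.2 (H.conj_mem_zpowers hwC (hWm w hw) H.dY)
    refine ⟨k, mem_inf.2 ⟨mul_mem (inv_mem (pow_mem H.b_mem_W k)) hw, ?_⟩⟩
    have hwd : w * d * w⁻¹ = z ^ k * d := by rw [eq_mul_inv_iff_mul_eq] at hk; exact hk.symm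
    have hbd : b ^ k * d * (b ^ k)⁻¹ = z ^ k * d := by
      simpa using H.conj_d_pow k 1
    have hcd : Commute ((b ^ k)⁻¹ * w) d := by
      show (b ^ k)⁻¹ * w * d = d * ((b ^ k)⁻¹ * w)
      calc (b ^ k)⁻¹ * w * d = (b ^ k)⁻¹ * (w * d * w⁻¹) * w := by group
        _ = (b ^ k)⁻¹ * (b ^ k * d * (b ^ k)⁻¹) * w := by rw [hwd, hbd]
        _ = _ := by group
    have hcb : Commute ((b ^ k)⁻¹ * w) b :=
      ((Commute.refl b).pow_left k).inv_left.mul_left (mul_inv_eq_iff_eq_mul.1 hwb)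
    have hcz : Commute ((b ^ k)⁻¹ * w) z := by
      rw [← H.comm]
      exact ((hcb.mul_right hcd).mul_right hcb.inv_right).mul_right hcd.inv_right
    refine mem_centralizer_iff.2 fun v hv => ?_
    obtain ⟨i, j, l, rfl⟩ := H.span v hv
    exact (((hcb.pow_right i).mul_right (hcd.pow_right j)).mul_right (hcz.pow_right l)).eq.symm
  set V := F.W ⊓ centralizer (Y : Set G) with hV
  have hVc : ∀ a ∈ V, ∀ v ∈ Y, Commute a v := fun a ha v hv => (mem_centralizer_iff.1 ha.2 v hv).symm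
  -- `V` has order prime to `p`
  have hVp : ∀ a ∈ V, ¬ p ∣ orderOf a := by
    intro a ha hdvd
    obtain ⟨m, hm'⟩ := hdvd
    set a' := a ^ m
    have ha' : a' ∈ V := pow_mem ha m
    have hord : orderOf a' = p := by
      have hm0 : 0 < m := Nat.pos_of_ne_zero fun h => (orderOf_pos a).ne' (by rw [hm', h, mul_zero])
      rw [orderOf_pow' _ hm0.ne', hm', Nat.gcd_eq_right (Dvd.intro_left _ rfl), Nat.mul_div_cancel _ hm0]
    have hAp : IsPGroup p (zpowers a') := IsPGroup.of_card (n := 1) (by rw [Nat.card_zpowers, hord, pow_one])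
    have hnA : zpowers a' ≤ normalizer (Y : Set G) := zpowers_le.2 (H.norm (F.O_le (F.W_le ha'.1)))
    have hP : IsPGroup p (zpowers a' ⊔ Y : Subgroup G) := hAp.to_sup_of_normal_right' hYp hnA
    have hPU : F.U ≤ normalizer ((zpowers a' ⊔ Y : Subgroup G) : Set G) := by
      refine le_trans ?_ (normalizer_inf_normalizer_le_normalizer_sup _ _)
      refine le_inf ?_ hYU
      refine (fun x hx => mem_normalizer_iff.2 fun w => ?_)
      have hxa : ∀ x ∈ F.U, ∀ w ∈ zpowers a', x * w * x⁻¹ = w := by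
        intro x hx w hw
        obtain ⟨i, rfl⟩ := mem_zpowers_iff.1 hw
        rw [← conj_zpow, (hWU a' ha'.1 x hx).eq, mul_inv_cancel_right]
      constructor
      · intro hw; rw [hxa x hx w hw]; exact hw
      · intro hw
        have := hxa x⁻¹ (inv_mem hx) _ hw
        rw [show x⁻¹ * (x * w * x⁻¹) * x⁻¹⁻¹ = w by group] at this
        exact this ▸ hw
    obtain ⟨S, hPS, hYS, hLS⟩ := hL _ (sup_le (zpowers_le.2 (F.W_le ha'.1)) H.le) hP hPU
    obtain ⟨g, -, -, hg⟩ := hLS.inverted_cyclic (zpowers a') (zpowers_le.2 ha'.1) (le_sup_left.trans hPS)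
      (zpowers_ne_bot.2 fun h => H.hp.one_lt.ne (by rw [← hord, h, orderOf_one]))
    have hmem : ∀ v ∈ Y, v ∈ centralizer ((zpowers a' : Subgroup G) : Set G) := fun v hv =>
      mem_centralizer_iff.2 fun x hx => by
        obtain ⟨i, rfl⟩ := mem_zpowers_iff.1 hx
        exact ((hVc a' ha' v hv).zpow_left i).eq
    have h := mem_zpowers_of_mem_cyclic H.hp (hg z ⟨hYS H.zY, hmem z H.zY⟩ H.zinv)
      (hg d ⟨hYS H.dY, hmem d H.dY⟩ H.dinv) (H.exp z H.zY) (H.exp d H.dY) H.z1
    have := congrFun (H.co_zpowers h) 1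
    rw [H.co_d] at this
    simp at this
  -- `V` is trivial
  have hVbot : V = ⊥ := by
    by_contra hne
    have hσV : F.σ ∈ normalizer (V : Set G) := by
      have key : ∀ s : G, s ∈ normalizer (F.W : Set G) → ∀ a ∈ V, s * a * s⁻¹ ∈ V := by
        intro s hs a ha
        have h1 := (mem_normalizer_iff.1 hs a).1 ha.1
        obtain ⟨k, hk⟩ := hdec _ h1
        suffices hk0 : b ^ k = 1 by rwa [hk0, inv_one, one_mul] at hk
        have hcomm : Commute (b ^ k) ((b ^ k)⁻¹ * (s * a * s⁻¹)) := ((hVc _ hk b H.bY).pow_right k).symm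
        have hn : (s * a * s⁻¹) ^ orderOf a = 1 := by
          rw [conj_pow, pow_orderOf_eq_one, mul_one, mul_inv_cancel]
        rw [show s * a * s⁻¹ = b ^ k * ((b ^ k)⁻¹ * (s * a * s⁻¹)) from (mul_inv_cancel_left _ _).symm,
          hcomm.mul_pow] at hn
        set w := (b ^ k)⁻¹ * (s * a * s⁻¹) with hw
        have hbk : (b ^ k) ^ (orderOf a * orderOf w) = 1 := by
          have hwn : (w ^ orderOf a) ^ orderOf w = 1 := by
            rw [← pow_mul, mul_comm, pow_mul, pow_orderOf_eq_one, one_pow]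
          rw [pow_mul, eq_inv_of_mul_eq_one_left hn, inv_pow, hwn, inv_one]
        have hbp : (b ^ k) ^ p = 1 := by rw [← pow_mul, mul_comm, pow_mul, H.exp b H.bY, one_pow]
        have := pow_gcd_eq_one.2 ⟨hbk, hbp⟩
        rwa [((Nat.Coprime.mul_left ((Nat.Prime.coprime_iff_not_dvd H.hp).2 (hVp a ha)).symm
          ((Nat.Prime.coprime_iff_not_dvd H.hp).2 (hVp w hk)).symm)).gcd_eq_one, pow_one] at this
      refine Cfsg.Lib.Coprime.mem_normalizer_of_conj_mem (key F.σ (F.σ_mem_normalizer_W hm)) fun a ha => ?_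
      simpa using key F.σ⁻¹ (inv_mem (F.σ_mem_normalizer_W hm)) a ha
    set N := normalizer (V : Set G) with hN
    have hNtop : N ≠ ⊤ := by
      intro h
      haveI : IsSimpleGroup G := hm.simple
      haveI : V.Normal := normalizer_eq_top_iff.1 h
      rcases (inferInstance : V.Normal).eq_bot_or_eq_top with h' | h'
      · exact hne h'
      · have hb : b ∈ V := h' ▸ mem_top b
        have := (hVc b hb d H.dY).eq
        exact H.z1 (by rw [← H.comm, this, mul_inv_cancel_right, mul_inv_cancel])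
    have hUN : F.U ≤ N := fun x hx => centralizer_le_normalizer _
      (mem_centralizer_iff.2 fun a ha => ((hWU a ha.1 x hx).symm).eq)
    have hYN : Y ≤ N := fun v hv => centralizer_le_normalizer _
      (mem_centralizer_iff.2 fun a ha => (hVc a ha v hv).eq)
    obtain ⟨T, Q, hT⟩ := hTop N hNtop (F.fusing_of_conj hm hUN hσV F.σ_t)
    set K : Subgroup G := zpowers z ⊔ zpowers d with hK
    have hzd : Commute z d := H.zc d H.dY
    have hKmem : ∀ k ∈ K, ∃ i j : ℤ, k = z ^ i * d ^ j := by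
      intro k hk
      have hn : zpowers d ≤ normalizer ((zpowers z : Subgroup G) : Set G) := by
        refine zpowers_le.2 (centralizer_le_normalizer _ (mem_centralizer_iff.2 fun x hx => ?_))
        obtain ⟨i, rfl⟩ := mem_zpowers_iff.1 hx
        exact (hzd.zpow_left i).eq
      obtain ⟨_, hx, _, hy', rfl⟩ := (Cfsg.Lib.Coprime.mem_sup_of_le_normalizer' hn).1 hk
      obtain ⟨j, rfl⟩ := mem_zpowers_iff.1 hx
      obtain ⟨i, rfl⟩ := mem_zpowers_iff.1 hy'
      exact ⟨i, j, ((hzd.zpow_zpow i j).symm).eq⟩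
    have hKinv : ∀ k ∈ K, F.u * k * F.u⁻¹ = k⁻¹ := by
      intro k hk
      obtain ⟨i, j, rfl⟩ := hKmem k hk
      rw [← conj_mul, ← conj_zpow, ← conj_zpow, H.zinv, H.dinv, _root_.mul_inv_rev, _root_.inv_zpow,
        _root_.inv_zpow]
      exact ((hzd.zpow_zpow i j).inv_inv).eq
    have hKY : K ≤ Y := sup_le (zpowers_le.2 H.zY) (zpowers_le.2 H.dY)
    obtain ⟨-, g, hgK, hg⟩ := hT.torus K (le_inf (hKY.trans hYN) (hKY.trans H.le))
      fun k hk => by rw [hKinv k hk, inv_mul_cancel]; exact one_mem _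
    -- `K` meets the core trivially
    have hcore : ∀ c ∈ K ⊓ Core N, c = 1 := by
      intro c hc
      obtain ⟨S, -, -, hLS⟩ := hL Y H.le hYp hYU
      have hfix : c ∈ centralizer (F.U : Set G) := by
        refine hLS.core_fixed N hNtop (F.fusing_of_conj hm hUN hσV F.σ_t) (zpowers c)
          ((hYp.to_le (zpowers_le.2 (hKY hc.1)))) (zpowers_le.2 hc.2) ?_ (mem_zpowers c)
        refine fun x hx => mem_normalizer_iff.2 fun w => ?_
        have hx' : x * c * x⁻¹ = c ∨ x * c * x⁻¹ = c⁻¹ := by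
          have ht : F.t * c * F.t⁻¹ = c := mul_inv_eq_iff_eq_mul.2
            (F.mem_C.1 (F.O_le (H.le (hKY hc.1)))).symm
          have hu := hKinv c hc.1
          rcases F.mem_U.1 hx with rfl | rfl | rfl | rfl
          · left; simp
          · exact Or.inl ht
          · exact Or.inr hu
          · right
            rw [show F.t * F.u * c * (F.t * F.u)⁻¹ = F.t * (F.u * c * F.u⁻¹) * F.t⁻¹ by group, hu, ← conj_inv, ht]
        have hxx : x⁻¹ = x := by
          rcases F.mem_U.1 hx with rfl | rfl | rfl | rfl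
          exacts [inv_one, F.t_inv, F.u_inv, inv_eq_of_mul_eq_one_right F.v_sq]
        have key : ∀ w ∈ zpowers c, x * w * x⁻¹ ∈ zpowers c := by
          intro w hw
          obtain ⟨i, rfl⟩ := mem_zpowers_iff.1 hw
          rw [← conj_zpow]
          rcases hx' with e | e <;> rw [e]
          · exact zpow_mem (mem_zpowers c) i
          · exact zpow_mem ((zpowers c).inv_mem (mem_zpowers c)) i
        refine ⟨key w, fun hw => ?_⟩
        have := key _ hw
        rw [hxx] at this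
        have hxxx : x * x = 1 := by nth_rewrite 1 [← hxx]; exact inv_mul_cancel x
        simpa [mul_assoc, ← mul_assoc x x, hxxx] using this
      exact Frame.eq_one_of_fixed_inverted (Frame.odd_orderOf F.odd_card_O (H.le (hKY hc.1)))
        (mul_inv_eq_iff_eq_mul.2 (F.mem_centralizer_U.1 hfix).2.symm) (hKinv c hc.1)
    have hKg : ∀ k ∈ K, k ∈ zpowers g := by
      intro k hk
      have hgn : zpowers g ≤ normalizer (Core N : Set G) :=
        ((zpowers_le.2 hgK).trans (hKY.trans hYN)).trans (le_normalizer_core N)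
      obtain ⟨x, hx, n, hn, e⟩ := (Cfsg.Lib.Coprime.mem_sup_of_le_normalizer' hgn).1
        (by rw [sup_comm]; exact hg hk)
      have hnK : n ∈ K ⊓ Core N := ⟨by
        rw [show n = x⁻¹ * k by rw [← e, inv_mul_cancel_left]]
        exact K.mul_mem (K.inv_mem ((zpowers_le.2 hgK) hx)) hk, hn⟩
      rw [← e, hcore n hnK, mul_one]
      exact hx
    have h := mem_zpowers_of_mem_cyclic H.hp (hKg z (mem_sup_left (mem_zpowers z)))
      (hKg d (mem_sup_right (mem_zpowers d))) (H.exp z H.zY) (H.exp d H.dY) H.z1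
    have := congrFun (H.co_zpowers h) 1
    rw [H.co_d] at this
    simp at this
  refine le_antisymm (fun w hw => ?_) (zpowers_le.2 H.b_mem_W)
  obtain ⟨k, hk⟩ := hdec w hw
  rw [hVbot, mem_bot, inv_mul_eq_one] at hk
  rw [← hk]
  exact pow_mem (mem_zpowers b) k

/-- `z` is central in `O`. -/
theorem comm_z (hW : F.W = zpowers b) {o : G} (ho : o ∈ F.O) : Commute o z := by
  obtain ⟨a, ha, x, hx, h1, h2, rfl⟩ := Frame.exists_fixed_mul_inverted F.odd_card_O F.u_sq
    (F.U_le_normalizer_O F.u_mem_U) ho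
  have haW : a ∈ zpowers b := hW ▸ F.mem_W.2 ⟨ha, (mul_inv_eq_iff_eq_mul.1 h1).symm⟩
  exact ((H.zc a ((zpowers_le.2 H.bY) haW)).symm).mul_left (H.comm_z_of_inverted hx h2)

end Heis

end Cfsg.Lib.GW
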