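import Cfsg.Agent.FourGroupGW.Inverted.Tools

/-!
# An extraspecial group of order `p³` normal in `C(t)`: coordinates modulo the centre
-/

set_option autoImplicit false
set_option linter.unusedSectionVars false
set_option linter.style.haveILetI false

namespace Cfsg.Lib.GW

open Subgroup Matrix

universe u

variable {G : Type u} [Group G]

/-- The subgroup `Y`, generated by `b ∈ W` and by `d`, `z` inverted by `u`, with `[b, d] = z` central. -/
structure Heis (F : Frame G) (p : ℕ) (Y : Subgroup G) (b d z : G) : Prop where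
  hp : p.Prime
  p2 : p ≠ 2
  le : Y ≤ F.O
  norm : F.C ≤ normalizer (Y : Set G)
  bY : b ∈ Y
  dY : d ∈ Y
  zY : z ∈ Y
  bfix : F.u * b * F.u⁻¹ = b
  dinv : F.u * d * F.u⁻¹ = d⁻¹
  zinv : F.u * z * F.u⁻¹ = z⁻¹
  exp : ∀ v ∈ Y, v ^ p = 1
  z1 : z ≠ 1
  zc : ∀ v ∈ Y, Commute z v
  comm : b * d * b⁻¹ * d⁻¹ = z
  span : ∀ v ∈ Y, ∃ i j k : ℕ, v = b ^ i * d ^ j * z ^ k

open Classical in
/-- The exponents of `b` and `d`, modulo `p`. -/
noncomputable def co (Y : Subgroup G) (p : ℕ) (b d z : G) (v : G) : Fin 2 → ZMod p :=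
  if h : ∃ i j k : ℕ, v = b ^ i * d ^ j * z ^ k ∧ v ∈ Y then
    ![(h.choose : ZMod p), (h.choose_spec.choose : ZMod p)] else 0

namespace Heis

variable [Finite G] {F : Frame G} {p : ℕ} {Y : Subgroup G} {b d z : G} (H : Heis F p Y b d z)
include H

theorem b_mem_W : b ∈ F.W := F.mem_W.2 ⟨H.le H.bY, (mul_inv_eq_iff_eq_mul.1 H.bfix).symm⟩

theorem b1 : b ≠ 1 := fun h => H.z1 (by rw [← H.comm, h]; simp)

theorem d1 : d ≠ 1 := fun h => H.z1 (by rw [← H.comm, h]; simp)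

theorem orderOf_z : orderOf z = p := by
  haveI : Fact p.Prime := ⟨H.hp⟩
  exact orderOf_eq_prime (H.exp z H.zY) H.z1

theorem orderOf_b : orderOf b = p := by
  haveI : Fact p.Prime := ⟨H.hp⟩
  exact orderOf_eq_prime (H.exp b H.bY) H.b1

theorem orderOf_d : orderOf d = p := by
  haveI : Fact p.Prime := ⟨H.hp⟩
  exact orderOf_eq_prime (H.exp d H.dY) H.d1

theorem zpow_eq_one {n : ℕ} : z ^ n = 1 ↔ (n : ZMod p) = 0 := by
  rw [← orderOf_dvd_iff_pow_eq_one, H.orderOf_z, ZMod.natCast_eq_zero_iff]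

theorem z_pow_comm (k : ℕ) {v : G} (hv : v ∈ Y) : Commute (z ^ k) v := (H.zc v hv).pow_left k

theorem conj_d_pow (i j : ℕ) : b ^ i * d ^ j * (b ^ i)⁻¹ = z ^ (i * j) * d ^ j := by
  have h1 : b * d * b⁻¹ = z * d := by rw [← H.comm]; group
  have hi : ∀ n : ℕ, b ^ n * d * (b ^ n)⁻¹ = z ^ n * d := by
    intro n
    induction n with
    | zero => simp
    | succ n ih =>
      rw [pow_succ', show b * b ^ n * d * (b * b ^ n)⁻¹ = b * (b ^ n * d * (b ^ n)⁻¹) * b⁻¹ by group, ih,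
        ← mul_assoc, ← (H.z_pow_comm n H.bY).eq, mul_assoc (z ^ n), mul_assoc (z ^ n), h1, ← mul_assoc,
        ← pow_succ]
  rw [← conj_pow, hi i, ((H.z_pow_comm i H.dY).mul_pow j), ← pow_mul]

theorem nf_mul (i j k i' j' k' : ℕ) : ∃ m : ℕ,
    b ^ i * d ^ j * z ^ k * (b ^ i' * d ^ j' * z ^ k') = b ^ (i + i') * d ^ (j + j') * z ^ m := by
  have hzp : ∀ n : ℕ, z ^ ((p - 1) * n) = (z ^ n)⁻¹ := fun n => by
    rw [eq_inv_iff_mul_eq_one, ← pow_add, ← orderOf_dvd_iff_pow_eq_one, H.orderOf_z]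
    exact ⟨n, by rw [← Nat.succ_mul, Nat.succ_eq_add_one, Nat.sub_add_cancel H.hp.one_lt.le]⟩
  refine ⟨(p - 1) * (i' * j) + (k + k'), ?_⟩
  have hswap : d ^ j * b ^ i' = b ^ i' * d ^ j * (z ^ (i' * j))⁻¹ := by
    rw [show b ^ i' * d ^ j = b ^ i' * d ^ j * (b ^ i')⁻¹ * b ^ i' by group, H.conj_d_pow]
    have := H.z_pow_comm (i' * j) (mul_mem (pow_mem H.dY j) (pow_mem H.bY i'))
    rw [mul_assoc (z ^ (i' * j)), this.eq, mul_inv_cancel_right]
  have hc : ∀ (v : G) (n : ℕ), v ∈ Y → z ^ n * v = v * z ^ n := fun v n hv => (H.z_pow_comm n hv).eq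
  calc b ^ i * d ^ j * z ^ k * (b ^ i' * d ^ j' * z ^ k')
      = b ^ i * d ^ j * (z ^ k * (b ^ i' * d ^ j')) * z ^ k' := by group
    _ = b ^ i * (d ^ j * b ^ i') * d ^ j' * (z ^ k * z ^ k') := by
        rw [hc _ k (mul_mem (pow_mem H.bY i') (pow_mem H.dY j'))]; group
    _ = b ^ i * (b ^ i' * d ^ j) * ((z ^ (i' * j))⁻¹ * d ^ j') * (z ^ k * z ^ k') := by rw [hswap]; group
    _ = b ^ i * (b ^ i' * d ^ j) * (d ^ j' * (z ^ (i' * j))⁻¹) * (z ^ k * z ^ k') := by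
        rw [((H.z_pow_comm (i' * j) (pow_mem H.dY j')).inv_left).eq]
    _ = _ := by rw [pow_add b, pow_add d, pow_add z, pow_add z k, hzp]; group

theorem nf_conj_d (i j k : ℕ) :
    b ^ i * d ^ j * z ^ k * d * (b ^ i * d ^ j * z ^ k)⁻¹ = z ^ i * d := by
  have e : z ^ k * d * (z ^ k)⁻¹ = d := by rw [(H.z_pow_comm k H.dY).eq, mul_inv_cancel_right]
  calc b ^ i * d ^ j * z ^ k * d * (b ^ i * d ^ j * z ^ k)⁻¹
      = b ^ i * (d ^ j * (z ^ k * d * (z ^ k)⁻¹) * (d ^ j)⁻¹) * (b ^ i)⁻¹ := by group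
    _ = b ^ i * d ^ 1 * (b ^ i)⁻¹ := by rw [e]; group
    _ = _ := by rw [H.conj_d_pow, mul_one, pow_one]

theorem nf_conj_b (i j k : ℕ) :
    b ^ i * d ^ j * z ^ k * b * (b ^ i * d ^ j * z ^ k)⁻¹ = (z ^ j)⁻¹ * b := by
  have e : z ^ k * b * (z ^ k)⁻¹ = b := by rw [(H.z_pow_comm k H.bY).eq, mul_inv_cancel_right]
  have e2 : d ^ j * b * (d ^ j)⁻¹ = (z ^ j)⁻¹ * b := by
    have h := H.conj_d_pow 1 j
    rw [one_mul, pow_one] at h
    calc d ^ j * b * (d ^ j)⁻¹ = (z ^ j)⁻¹ * (z ^ j * d ^ j) * b * (d ^ j)⁻¹ := by group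
      _ = (z ^ j)⁻¹ * (b * d ^ j * b⁻¹) * b * (d ^ j)⁻¹ := by rw [h]
      _ = _ := by group
  calc b ^ i * d ^ j * z ^ k * b * (b ^ i * d ^ j * z ^ k)⁻¹
      = b ^ i * (d ^ j * (z ^ k * b * (z ^ k)⁻¹) * (d ^ j)⁻¹) * (b ^ i)⁻¹ := by group
    _ = b ^ i * (z ^ j)⁻¹ * b * (b ^ i)⁻¹ := by rw [e, e2]; group
    _ = _ := by rw [← ((H.z_pow_comm j (pow_mem H.bY i)).inv_left).eq]; group

theorem cast_eq {i i' : ℕ} (h : z ^ i = z ^ i') : (i : ZMod p) = i' := by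
  rw [ZMod.natCast_eq_natCast_iff, ← H.orderOf_z]
  exact pow_eq_pow_iff_modEq.1 h

theorem co_nf (i j k : ℕ) : co Y p b d z (b ^ i * d ^ j * z ^ k) = ![(i : ZMod p), (j : ZMod p)] := by
  classical
  have h : ∃ i' j' k' : ℕ, b ^ i * d ^ j * z ^ k = b ^ i' * d ^ j' * z ^ k' ∧ b ^ i * d ^ j * z ^ k ∈ Y :=
    ⟨i, j, k, rfl, mul_mem (mul_mem (pow_mem H.bY i) (pow_mem H.dY j)) (pow_mem H.zY k)⟩
  rw [co, dif_pos h]
  obtain ⟨k', e, -⟩ := h.choose_spec.choose_spec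
  have hd := H.nf_conj_d i j k
  rw [e, H.nf_conj_d, mul_left_inj] at hd
  have hb := H.nf_conj_b i j k
  rw [e, H.nf_conj_b, mul_left_inj, _root_.inv_inj] at hb
  rw [← H.cast_eq hd.symm, ← H.cast_eq hb.symm]

theorem co_mul {v w : G} (hv : v ∈ Y) (hw : w ∈ Y) :
    co Y p b d z (v * w) = co Y p b d z v + co Y p b d z w := by
  obtain ⟨i, j, k, rfl⟩ := H.span v hv
  obtain ⟨i', j', k', rfl⟩ := H.span w hw
  obtain ⟨m, hm⟩ := H.nf_mul i j k i' j' k'
  rw [hm, H.co_nf, H.co_nf, H.co_nf]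
  simp

theorem co_b : co Y p b d z b = ![1, 0] := by simpa using H.co_nf 1 0 0

theorem co_d : co Y p b d z d = ![0, 1] := by simpa using H.co_nf 0 1 0

theorem co_z_pow (k : ℕ) : co Y p b d z (z ^ k) = 0 := by
  have h := H.co_nf 0 0 k
  simp only [pow_zero, one_mul, Nat.cast_zero] at h
  rw [h]
  ext r; fin_cases r <;> rfl

theorem co_one : co Y p b d z 1 = 0 := by simpa using H.co_z_pow 0

theorem co_inv {v : G} (hv : v ∈ Y) : co Y p b d z v⁻¹ = -co Y p b d z v := by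
  rw [eq_neg_iff_add_eq_zero, ← H.co_mul (inv_mem hv) hv, inv_mul_cancel, H.co_one]

theorem co_pow {v : G} (hv : v ∈ Y) (n : ℕ) : co Y p b d z (v ^ n) = n • co Y p b d z v := by
  induction n with
  | zero => rw [pow_zero, H.co_one, zero_nsmul]
  | succ n ih => rw [pow_succ, H.co_mul (pow_mem hv n) hv, ih, succ_nsmul]

theorem co_eq_zero {v : G} (hv : v ∈ Y) (h : co Y p b d z v = 0) : v ∈ zpowers z := by
  obtain ⟨i, j, k, rfl⟩ := H.span v hv
  rw [H.co_nf] at h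
  have h0 : (i : ZMod p) = 0 := congrFun h 0
  have h1 : (j : ZMod p) = 0 := congrFun h 1
  obtain ⟨a, rfl⟩ := (ZMod.natCast_eq_zero_iff _ _).1 h0
  obtain ⟨c, rfl⟩ := (ZMod.natCast_eq_zero_iff _ _).1 h1
  rw [pow_mul, pow_mul, H.exp b H.bY, H.exp d H.dY, one_pow, one_pow, one_mul, one_mul]
  exact pow_mem (mem_zpowers z) k

theorem co_zpowers {v : G} (hv : v ∈ zpowers z) : co Y p b d z v = 0 := by
  obtain ⟨k, rfl⟩ := mem_powers_iff_mem_zpowers.2 hv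
  exact H.co_z_pow k

/-- An element of `Y` commuting with `b` and `d` is a power of `z`. -/
theorem mem_zpowers_of_comm {v : G} (hv : v ∈ Y) (hb : Commute v b) (hd : Commute v d) : v ∈ zpowers z := by
  obtain ⟨i, j, k, rfl⟩ := H.span v hv
  have hz : ∀ w ∈ Y, Commute (z ^ k)⁻¹ w := fun w hw => (H.z_pow_comm k hw).inv_left
  have hb' : Commute (b ^ i * d ^ j) b := by
    have := hb.mul_left (hz b H.bY); rwa [mul_inv_cancel_right] at this
  have hd' : Commute (b ^ i * d ^ j) d := by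
    have := hd.mul_left (hz d H.dY); rwa [mul_inv_cancel_right] at this
  have hi : Commute (b ^ i) d := by
    have := hd'.mul_left (((Commute.refl d).pow_left j).inv_left); rwa [mul_inv_cancel_right] at this
  have hj : Commute (d ^ j) b := by
    have := (((Commute.refl b).pow_left i).inv_left).mul_left hb'; rwa [inv_mul_cancel_left] at this
  have e1 : z ^ i = 1 := by
    have h := H.conj_d_pow i 1
    rw [pow_one, hi.eq, mul_inv_cancel_right, mul_one] at h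
    exact mul_eq_right.1 h.symm
  have e2 : z ^ j = 1 := by
    have h := H.conj_d_pow 1 j
    rw [pow_one, ← hj.eq, mul_inv_cancel_right, one_mul] at h
    exact mul_eq_right.1 h.symm
  refine H.co_eq_zero hv ?_
  rw [H.co_nf, H.zpow_eq_one.1 e1, H.zpow_eq_one.1 e2]
  ext i; fin_cases i <;> rfl

theorem mem_Y_conj {o v : G} (ho : o ∈ F.C) (hv : v ∈ Y) : o * v * o⁻¹ ∈ Y := conj_mem_of_le H.norm ho hv

/-- Conjugation preserves the centre of `Y`. -/
theorem conj_z_mem {o : G} (ho : o ∈ F.C) : o * z * o⁻¹ ∈ zpowers z := by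
  refine H.mem_zpowers_of_comm (H.mem_Y_conj ho H.zY) ?_ ?_
  all_goals
    have key : ∀ v ∈ Y, Commute (o * z * o⁻¹) v := fun v hv => by
      have h := H.zc _ (H.mem_Y_conj (inv_mem ho) hv)
      have := h.map (MulAut.conj o).toMonoidHom
      simpa [mul_assoc] using this
  · exact key b H.bY
  · exact key d H.dY

/-- The matrix of an element normalising `Y` on `Y` modulo `⟨z⟩`. -/
noncomputable def mat (_ : Heis F p Y b d z) (o : G) : Matrix (Fin 2) (Fin 2) (ZMod p) :=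
  Matrix.of fun i j => co Y p b d z (o * ![b, d] j * o⁻¹) i

theorem mat_mulVec {o v : G} (ho : o ∈ F.C) (hv : v ∈ Y) :
    H.mat o *ᵥ co Y p b d z v = co Y p b d z (o * v * o⁻¹) := by
  obtain ⟨i, j, k, rfl⟩ := H.span v hv
  have hB := H.mem_Y_conj ho H.bY
  have hD := H.mem_Y_conj ho H.dY
  rw [show o * (b ^ i * d ^ j * z ^ k) * o⁻¹ = (o * b * o⁻¹) ^ i * (o * d * o⁻¹) ^ j * (o * z * o⁻¹) ^ k by
      rw [conj_pow, conj_pow, conj_pow]; group,
    H.co_mul (mul_mem (pow_mem hB i) (pow_mem hD j)) (pow_mem (H.mem_Y_conj ho H.zY) k),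
    H.co_mul (pow_mem hB i) (pow_mem hD j), H.co_zpowers (pow_mem (H.conj_z_mem ho) k), H.co_pow hB,
    H.co_pow hD, H.co_nf, add_zero]
  ext r
  simp [mat, Matrix.mulVec, dotProduct, Fin.sum_univ_two, mul_comm]

theorem mat_one : H.mat 1 = 1 := by
  ext i j
  fin_cases i <;> fin_cases j <;> simp [mat, H.co_b, H.co_d]

theorem mat_mul {o o' : G} (ho : o ∈ F.C) (ho' : o' ∈ F.C) : H.mat (o * o') = H.mat o * H.mat o' := by
  ext i j
  have hv : ![b, d] j ∈ Y := by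
    fin_cases j
    · exact H.bY
    · exact H.dY
  have h := congrFun (H.mat_mulVec ho (H.mem_Y_conj ho' hv)) i
  rw [Matrix.mul_apply]
  simp only [Matrix.mulVec, dotProduct] at h
  rw [mat, Matrix.of_apply, show o * o' * ![b, d] j * (o * o')⁻¹ = o * (o' * ![b, d] j * o'⁻¹) * o⁻¹ by group,
    ← h]
  rfl

/-- Conjugation by `u` negates the second coordinate. -/
theorem co_u {v : G} (hv : v ∈ Y) :
    co Y p b d z (F.u * v * F.u⁻¹) = ![co Y p b d z v 0, -co Y p b d z v 1] := by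
  obtain ⟨i, j, k, rfl⟩ := H.span v hv
  have e : F.u * (b ^ i * d ^ j * z ^ k) * F.u⁻¹ = b ^ i * (d ^ j)⁻¹ * (z ^ k)⁻¹ := by
    rw [← conj_mul, ← conj_mul, ← conj_pow, ← conj_pow, ← conj_pow, H.bfix, H.dinv, H.zinv, inv_pow, inv_pow]
  rw [e, H.co_mul (mul_mem (pow_mem H.bY i) (inv_mem (pow_mem H.dY j))) (inv_mem (pow_mem H.zY k)),
    H.co_mul (pow_mem H.bY i) (inv_mem (pow_mem H.dY j)), H.co_inv (pow_mem H.dY j),
    H.co_inv (pow_mem H.zY k), H.co_z_pow, H.co_nf, H.co_pow H.bY, H.co_pow H.dY, H.co_b, H.co_d]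
  ext r; fin_cases r <;> simp

theorem mat_u {o : G} (ho : o ∈ F.C) :
    H.mat (F.u * o * F.u⁻¹) = !![H.mat o 0 0, -H.mat o 0 1; -H.mat o 1 0, H.mat o 1 1] := by
  have huC : F.u ∈ F.C := F.U_le_C F.u_mem_U
  have key : ∀ v ∈ Y, co Y p b d z (F.u * o * F.u⁻¹ * v * (F.u * o * F.u⁻¹)⁻¹) =
      ![co Y p b d z (o * (F.u⁻¹ * v * F.u) * o⁻¹) 0, -co Y p b d z (o * (F.u⁻¹ * v * F.u) * o⁻¹) 1] := by
    intro v hv
    rw [← H.co_u (H.mem_Y_conj ho (by simpa using H.mem_Y_conj (inv_mem huC) hv))]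
    congr 1; group
  have eb : F.u⁻¹ * b * F.u = b := by
    calc F.u⁻¹ * b * F.u = F.u⁻¹ * (F.u * b * F.u⁻¹) * F.u := by rw [H.bfix]
      _ = b := by group
  have ed : F.u⁻¹ * d * F.u = d⁻¹ := by
    calc F.u⁻¹ * d * F.u = (F.u⁻¹ * d⁻¹ * F.u)⁻¹ := by group
      _ = (F.u⁻¹ * (F.u * d * F.u⁻¹) * F.u)⁻¹ := by rw [H.dinv]
      _ = d⁻¹ := by group
  have hb' := key b H.bY
  have hd' := key d H.dY
  rw [eb] at hb'
  rw [ed, show o * d⁻¹ * o⁻¹ = (o * d * o⁻¹)⁻¹ by group, H.co_inv (H.mem_Y_conj ho H.dY)] at hd'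
  ext i j
  fin_cases i <;> fin_cases j
  all_goals simp only [mat, Matrix.of_apply]
  all_goals first
    | simpa using congrFun hb' 0
    | simpa using congrFun hb' 1
    | simpa using congrFun hd' 0
    | simpa using congrFun hd' 1

end Heis

end Cfsg.Lib.GW
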