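import Cfsg.Agent.FourGroupGW.Inverted.Cyclic
import Cfsg.Agent.FourGroupGW.Inverted.Fixed

/-!
# The kernel `K = Y Z₀` and the inverted central subgroup `Z₀ = C_O(Y)`
-/

set_option autoImplicit false
set_option linter.unusedSectionVars false
set_option linter.style.haveILetI false

namespace Cfsg.Lib.GW

open Subgroup Matrix

universe u

variable {G : Type u} [Group G] [Finite G]

/-- The data collected so far. -/
structure Inverted (F : Frame G) (p : ℕ) (Y : Subgroup G) (b d z y : G) : Prop where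
  heis : Heis F p Y b d z
  W_eq : F.W = zpowers b
  yO : y ∈ F.O
  yu : F.u * y * F.u⁻¹ = y⁻¹
  yp : ¬ p ∣ orderOf y
  ymove : ∃ v ∈ Y, y * v ≠ v * y

theorem Frame.exists_inverted_data {F : Frame G} (hm : Minimal G) (hTop : F.TopSpec) (hLin : F.LinearFixed)
    (hmax : IsCoatom F.C) (hLoc : F.Local) {p : ℕ} (hKS : F.KindS p) (hno : ¬ F.KindMixed p) :
    ∃ (Y : Subgroup G) (b d z y : G), Inverted F p Y b d z y ∧ F.LocAt p Y := by
  obtain ⟨Y, b, d, z, H, hL, y, hy, hyu, hyp, hmove⟩ := Frame.exists_heis hmax hLoc hKS hno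
  exact ⟨Y, b, d, z, y, ⟨H, H.W_eq hm hTop hLin hL hy hyu hyp hmove, hy, hyu, hyp, hmove⟩, hL⟩

namespace Inverted

variable {F : Frame G} {p : ℕ} {Y : Subgroup G} {b d z y : G} (D : Inverted F p Y b d z y)
include D

theorem hc : D.heis.mat y 0 1 ≠ 0 := (D.heis.offdiag_ne_zero D.yO D.yu D.yp D.ymove).1

theorem he : D.heis.mat y 1 0 ≠ 0 := (D.heis.offdiag_ne_zero D.yO D.yu D.yp D.ymove).2

theorem comm_z {o : G} (ho : o ∈ F.O) : Commute o z := D.heis.comm_z D.W_eq ho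

theorem conj_z_zpowers {o w : G} (ho : o ∈ F.O) (hw : w ∈ zpowers z) : o * w * o⁻¹ = w := by
  obtain ⟨i, rfl⟩ := mem_zpowers_iff.1 hw
  rw [((D.comm_z ho).zpow_right i).eq, mul_inv_cancel_right]

theorem Y_le_ker : Y ≤ D.heis.ker := by
  intro v hv
  obtain ⟨i, j, k, rfl⟩ := D.heis.span v hv
  have hd : d ∈ D.heis.ker := by
    refine ⟨D.heis.le D.heis.dY, ?_⟩
    have h1 : co Y p b d z (d * b * d⁻¹) = ![1, 0] := by
      obtain ⟨m, hm⟩ := D.heis.nf_mul 0 1 0 1 0 0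
      have h2 := D.heis.co_mul (mul_mem D.heis.dY D.heis.bY) (inv_mem D.heis.dY)
      rw [h2, D.heis.co_mul D.heis.dY D.heis.bY, D.heis.co_inv D.heis.dY, D.heis.co_b, D.heis.co_d]
      simp
    ext i j
    fin_cases i <;> fin_cases j <;>
      first
      | simpa [Heis.mat, D.heis.co_d] using congrFun h1 0
      | simpa [Heis.mat, D.heis.co_d] using congrFun h1 1
      | simp [Heis.mat, D.heis.co_d]
  have hz : z ∈ D.heis.ker := by
    refine ⟨D.heis.le D.heis.zY, ?_⟩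
    have e : ∀ v ∈ Y, z * v * z⁻¹ = v := fun v hv => by rw [(D.heis.zc v hv).eq, mul_inv_cancel_right]
    ext i j
    fin_cases i <;> fin_cases j <;>
      simp [Heis.mat, e b D.heis.bY, e d D.heis.dY, D.heis.co_b, D.heis.co_d]
  have hb : b ∈ D.heis.ker := ⟨D.heis.le D.heis.bY, D.heis.mat_b⟩
  exact mul_mem (mul_mem (pow_mem hb i) (pow_mem hd j)) (pow_mem hz k)

theorem mem_centre {a : G} : a ∈ D.heis.centre ↔ a ∈ F.O ∧ ∀ v ∈ Y, Commute a v := by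
  rw [Heis.centre, mem_inf, mem_centralizer_iff]
  exact and_congr_right' ⟨fun h v hv => (h v hv).symm, fun h v hv => (h v hv).eq.symm⟩

theorem centre_le_ker : D.heis.centre ≤ D.heis.ker := by
  intro a ha
  obtain ⟨haO, hac⟩ := D.mem_centre.1 ha
  refine ⟨haO, ?_⟩
  ext i j
  have e : a * ![b, d] j * a⁻¹ = ![b, d] j := by
    fin_cases j
    · exact mul_inv_eq_iff_eq_mul.2 (hac b D.heis.bY).eq
    · exact mul_inv_eq_iff_eq_mul.2 (hac d D.heis.dY).eq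
  rw [Heis.mat, Matrix.of_apply, e]
  fin_cases i <;> fin_cases j <;> simp [D.heis.co_b, D.heis.co_d]

theorem z_mem_centre : z ∈ D.heis.centre := D.mem_centre.2 ⟨D.heis.le D.heis.zY, D.heis.zc⟩

theorem centre_u {a : G} (ha : a ∈ D.heis.centre) : F.u * a * F.u⁻¹ ∈ D.heis.centre := by
  obtain ⟨haO, hac⟩ := D.mem_centre.1 ha
  have hu := F.U_le_C F.u_mem_U
  refine D.mem_centre.2 ⟨conj_mem_of_le F.U_le_normalizer_O F.u_mem_U haO, fun v hv => ?_⟩
  have h := (hac _ (by simpa using D.heis.mem_Y_conj (inv_mem hu) hv : F.u⁻¹ * v * F.u ∈ Y)).map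
    (MulAut.conj F.u).toMonoidHom
  simpa [mul_assoc] using h

theorem centre_fixed {a : G} (ha : a ∈ D.heis.centre) (hau : F.u * a * F.u⁻¹ = a) : a = 1 := by
  obtain ⟨haO, hac⟩ := D.mem_centre.1 ha
  obtain ⟨k, hk⟩ := mem_powers_iff_mem_zpowers.2 (D.heis.eq_zpow_b D.W_eq haO hau)
  have hk' : b ^ k = a := hk
  have h := D.heis.conj_d_pow k 1
  rw [hk', pow_one, (hac d D.heis.dY).eq, mul_inv_cancel_right, mul_one] at h
  have hk0 : (k : ZMod p) = 0 := D.heis.zpow_eq_one.1 (mul_eq_right.1 h.symm)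
  obtain ⟨l, rfl⟩ := (ZMod.natCast_eq_zero_iff _ _).1 hk0
  rw [← hk', pow_mul, D.heis.exp b D.heis.bY, one_pow]

theorem centre_inv {a : G} (ha : a ∈ D.heis.centre) : F.u * a * F.u⁻¹ = a⁻¹ := by
  have hodd : Odd (Nat.card D.heis.centre) := F.odd_card_O.of_dvd_nat (card_dvd_of_le inf_le_left)
  obtain ⟨f, hf, e, he, h1, h2, rfl⟩ := Frame.exists_fixed_mul_inverted hodd F.u_sq
    (mem_normalizer_iff.2 fun x => ⟨fun hx => D.centre_u hx, fun hx => by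
      have h := D.centre_u hx
      rwa [show F.u * (F.u * x * F.u⁻¹) * F.u⁻¹ = (F.u * F.u) * x * (F.u * F.u)⁻¹ by group, F.u_sq,
        one_mul, inv_one, mul_one] at h⟩) ha
  rw [D.centre_fixed hf h1, one_mul, h2]

theorem centre_normal {o a : G} (ho : o ∈ F.C) (ha : a ∈ D.heis.centre) : o * a * o⁻¹ ∈ D.heis.centre := by
  obtain ⟨haO, hac⟩ := D.mem_centre.1 ha
  refine D.mem_centre.2 ⟨conj_mem_of_le F.C_le_normalizer_O ho haO, fun v hv => ?_⟩
  have h := (hac _ (by simpa using D.heis.mem_Y_conj (inv_mem ho) hv : o⁻¹ * v * o ∈ Y)).map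
    (MulAut.conj o).toMonoidHom
  simpa [mul_assoc] using h

/-- `Z₀` is central in `O`. -/
theorem centre_comm {a o : G} (ha : a ∈ D.heis.centre) (ho : o ∈ F.O) : Commute o a := by
  obtain ⟨f, hf, x, hx, h1, h2, rfl⟩ := Frame.exists_fixed_mul_inverted F.odd_card_O F.u_sq
    (F.U_le_normalizer_O F.u_mem_U) ho
  have hfY : f ∈ Y := (zpowers_le.2 D.heis.bY) (D.heis.eq_zpow_b D.W_eq hf h1)
  exact (((D.mem_centre.1 ha).2 f hfY).symm).mul_left
    (commute_of_conj_inverted (Frame.odd_orderOf F.odd_card_O hx) h2 (D.centre_inv ha)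
      (D.centre_inv (D.centre_normal (F.O_le hx) ha)))

theorem comm_mem_zpowers {k v : G} (hk : k ∈ D.heis.ker) (hv : v ∈ Y) : k * v * k⁻¹ * v⁻¹ ∈ zpowers z :=
  D.heis.conj_mem_zpowers (F.O_le hk.1) hk.2 hv

theorem comm_mul {k k' v : G} (hk : k ∈ D.heis.ker) (hk' : k' ∈ D.heis.ker) (hv : v ∈ Y) :
    k * k' * v * (k * k')⁻¹ * v⁻¹ = k * v * k⁻¹ * v⁻¹ * (k' * v * k'⁻¹ * v⁻¹) := by
  have h := D.conj_z_zpowers hk.1 (D.comm_mem_zpowers hk' hv)
  obtain ⟨i, hi⟩ := mem_zpowers_iff.1 (D.comm_mem_zpowers hk' hv)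
  have hc : Commute (k' * v * k'⁻¹ * v⁻¹) (k * v * k⁻¹ * v⁻¹) := by
    rw [← hi]
    obtain ⟨j, hj⟩ := mem_zpowers_iff.1 (D.comm_mem_zpowers hk hv)
    rw [← hj]
    exact (Commute.refl z).zpow_zpow i j
  calc k * k' * v * (k * k')⁻¹ * v⁻¹
      = k * (k' * v * k'⁻¹ * v⁻¹) * k⁻¹ * (k * v * k⁻¹ * v⁻¹) := by group
    _ = _ := by rw [h, hc.eq]

/-- The commutator with a fixed element of `Y`, a homomorphism on `K`. -/
noncomputable def commHom (v : G) (hv : v ∈ Y) : D.heis.ker →* zpowers z where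
  toFun k := ⟨(k : G) * v * (k : G)⁻¹ * v⁻¹, D.comm_mem_zpowers k.2 hv⟩
  map_one' := Subtype.ext (by simp)
  map_mul' k k' := Subtype.ext (D.comm_mul k.2 k'.2 hv)

theorem commute_Y_iff {k : G} : (∀ v ∈ Y, Commute k v) ↔ Commute k b ∧ Commute k d := by
  refine ⟨fun h => ⟨h b D.heis.bY, h d D.heis.dY⟩, fun ⟨hb, hd⟩ v hv => ?_⟩
  obtain ⟨i, j, l, rfl⟩ := D.heis.span v hv
  have hz : Commute k z := by
    rw [← D.heis.comm]
    exact ((hb.mul_right hd).mul_right hb.inv_right).mul_right hd.inv_right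
  exact ((hb.pow_right i).mul_right (hd.pow_right j)).mul_right (hz.pow_right l)

theorem nondeg {k : G} (hk : k ∈ D.heis.ker) (hkA : k ∉ D.heis.centre) :
    ∃ v ∈ D.heis.ker, v * k * v⁻¹ * k⁻¹ ∈ zpowers z ∧ v * k * v⁻¹ * k⁻¹ ≠ 1 := by
  have h : ¬ (Commute k b ∧ Commute k d) := fun h => hkA (D.mem_centre.2 ⟨hk.1, D.commute_Y_iff.2 h⟩)
  have key : ∀ v ∈ Y, ¬ Commute k v →
      v ∈ D.heis.ker ∧ v * k * v⁻¹ * k⁻¹ ∈ zpowers z ∧ v * k * v⁻¹ * k⁻¹ ≠ 1 := fun v hv hne =>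
    ⟨D.Y_le_ker hv, by
      rw [show v * k * v⁻¹ * k⁻¹ = (k * v * k⁻¹ * v⁻¹)⁻¹ by group]
      exact inv_mem (D.comm_mem_zpowers hk hv),
      fun e => hne (mul_inv_eq_iff_eq_mul.1 (mul_inv_eq_one.1 e)).symm⟩
  rcases not_and_or.1 h with h | h
  · exact ⟨b, key b D.heis.bY h⟩
  · exact ⟨d, key d D.heis.dY h⟩

/-- `|K| = p² |Z₀|`. -/
theorem card_ker : Nat.card D.heis.ker = p ^ 2 * Nat.card D.heis.centre := by
  set Ψ := (D.commHom d D.heis.dY).prod (D.commHom b D.heis.bY) with hΨ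
  have hsurj : Function.Surjective Ψ := by
    rintro ⟨⟨w, hw⟩, ⟨w', hw'⟩⟩
    obtain ⟨i, rfl⟩ := mem_powers_iff_mem_zpowers.2 hw
    obtain ⟨m, hm⟩ := mem_powers_iff_mem_zpowers.2 (inv_mem hw')
    have hm' : (z ^ m)⁻¹ = w' := by rw [show z ^ m = w'⁻¹ from hm, inv_inv]
    refine ⟨⟨b ^ i * d ^ m * z ^ 0, D.Y_le_ker (mul_mem (mul_mem (pow_mem D.heis.bY i) (pow_mem D.heis.dY m))
      (pow_mem D.heis.zY 0))⟩, Prod.ext (Subtype.ext ?_) (Subtype.ext ?_)⟩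
    · show b ^ i * d ^ m * z ^ 0 * d * (b ^ i * d ^ m * z ^ 0)⁻¹ * d⁻¹ = z ^ i
      rw [D.heis.nf_conj_d, mul_inv_cancel_right]
    · show b ^ i * d ^ m * z ^ 0 * b * (b ^ i * d ^ m * z ^ 0)⁻¹ * b⁻¹ = w'
      rw [D.heis.nf_conj_b, mul_inv_cancel_right, hm']
  have hker : Ψ.ker = D.heis.centre.subgroupOf D.heis.ker := by
    ext k
    rw [MonoidHom.mem_ker, mem_subgroupOf, D.mem_centre, D.commute_Y_iff, hΨ, MonoidHom.prod_apply,
      Prod.mk_eq_one]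
    have e : ∀ v, (k : G) * v * (k : G)⁻¹ * v⁻¹ = 1 ↔ Commute (k : G) v := fun v =>
      mul_inv_eq_one.trans mul_inv_eq_iff_eq_mul
    refine ⟨fun h => ⟨k.2.1, (e b).1 (congrArg Subtype.val h.2), (e d).1 (congrArg Subtype.val h.1)⟩,
      fun h => ⟨Subtype.ext ((e d).2 h.2.2), Subtype.ext ((e b).2 h.2.1)⟩⟩
  rw [← Ψ.ker.card_mul_index, Subgroup.index_ker, Ψ.range_eq_top.2 hsurj, hker,
    Nat.card_congr (subgroupOfEquivOfLe D.centre_le_ker).toEquiv, card_top, Nat.card_prod, Nat.card_zpowers,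
    D.heis.orderOf_z]
  ring

/-- A `p'`-element of the kernel is in `Z₀`. -/
theorem mem_centre_of_coprime {k : G} (hk : k ∈ D.heis.ker) (hkp : ¬ p ∣ orderOf k) : k ∈ D.heis.centre := by
  refine D.mem_centre.2 ⟨hk.1, fun v hv => D.heis.commute_of_mat_one (F.O_le hk.1)
    ((Nat.Prime.coprime_iff_not_dvd D.heis.hp).2 hkp).symm (D.comm_z hk.1) hk.2 hv⟩

end Inverted

end Cfsg.Lib.GW
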