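import Cfsg.Agent.FourGroupGW.Inverted.Heis
import Mathlib.RingTheory.RootsOfUnity.Complex

/-!
# The matrices of inverted and of fixed elements on `Y` modulo its centre
-/

set_option autoImplicit false
set_option linter.unusedSectionVars false
set_option linter.style.haveILetI false

namespace Cfsg.Lib.GW

open Subgroup Matrix

universe u

/-- A finite cyclic group has a faithful linear character. -/
theorem exists_injective_linear (A : Type*) [Group A] [Finite A] [IsCyclic A] :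
    ∃ f : A →* ℂˣ, Function.Injective f := by
  obtain ⟨g, hg⟩ := IsCyclic.exists_generator (α := A)
  have hn : orderOf g ≠ 0 := (orderOf_pos g).ne'
  set ζ : ℂˣ := (Complex.isPrimitiveRoot_exp (orderOf g) hn).isUnit hn |>.unit
  have hζ : orderOf ζ = orderOf g := by
    rw [← orderOf_units, IsUnit.unit_spec]
    exact ((Complex.isPrimitiveRoot_exp (orderOf g) hn).eq_orderOf).symm
  refine ⟨monoidHomOfForallMemZpowers hg (dvd_of_eq hζ), ?_⟩
  rw [injective_iff_map_eq_one]
  intro a ha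
  obtain ⟨i, rfl⟩ := mem_zpowers_iff.1 (hg a)
  rw [map_zpow, monoidHomOfForallMemZpowers_apply_gen, ← orderOf_dvd_iff_zpow_eq_one, hζ] at ha
  exact orderOf_dvd_iff_zpow_eq_one.1 ha

variable {G : Type u} [Group G] [Finite G]

namespace Heis

variable {F : Frame G} {p : ℕ} {Y : Subgroup G} {b d z : G} (H : Heis F p Y b d z)
include H

theorem two_ne_zero' : (2 : ZMod p) ≠ 0 := by
  haveI : Fact p.Prime := ⟨H.hp⟩
  intro h
  have h' : ((2 : ℕ) : ZMod p) = 0 := by exact_mod_cast h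
  exact H.p2 ((Nat.prime_dvd_prime_iff_eq H.hp Nat.prime_two).1 ((ZMod.natCast_eq_zero_iff _ _).1 h'))

theorem mat_inv_mul {o : G} (ho : o ∈ F.C) : H.mat o⁻¹ * H.mat o = 1 := by
  rw [← H.mat_mul (inv_mem ho) ho, inv_mul_cancel, H.mat_one]

theorem mat_mul_inv {o : G} (ho : o ∈ F.C) : H.mat o * H.mat o⁻¹ = 1 := by
  rw [← H.mat_mul ho (inv_mem ho), mul_inv_cancel, H.mat_one]

theorem mat_pow {o : G} (ho : o ∈ F.C) (n : ℕ) : H.mat (o ^ n) = H.mat o ^ n := by
  induction n with
  | zero => rw [pow_zero, pow_zero, H.mat_one]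
  | succ n ih => rw [pow_succ, pow_succ, H.mat_mul (pow_mem ho n) ho, ih]

/-- An element of odd order inverted by `u` has equal diagonal entries and determinant one. -/
theorem mat_inverted {x : G} (hx : x ∈ F.O) (hxu : F.u * x * F.u⁻¹ = x⁻¹) :
    H.mat x 1 1 = H.mat x 0 0 ∧ H.mat x 0 0 * H.mat x 0 0 - H.mat x 0 1 * H.mat x 1 0 = 1 := by
  haveI : Fact p.Prime := ⟨H.hp⟩
  have hxC := F.O_le hx
  have h := H.mat_mul_inv hxC
  rw [← hxu, H.mat_u hxC] at h
  have h00 := congrFun (congrFun h 0) 0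
  have h01 := congrFun (congrFun h 0) 1
  have h10 := congrFun (congrFun h 1) 0
  have h11 := congrFun (congrFun h 1) 1
  simp [Matrix.mul_apply, Fin.sum_univ_two] at h00 h01 h10 h11
  refine ⟨?_, by linear_combination h00⟩
  by_contra hne
  have hc : H.mat x 0 1 = 0 := (mul_eq_zero.1
    (show H.mat x 0 1 * (H.mat x 1 1 - H.mat x 0 0) = 0 by linear_combination h01)).resolve_right
    (sub_ne_zero.2 hne)
  have he : H.mat x 1 0 = 0 := (mul_eq_zero.1
    (show H.mat x 1 0 * (H.mat x 0 0 - H.mat x 1 1) = 0 by linear_combination h10)).resolve_right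
    (sub_ne_zero.2 (Ne.symm hne))
  have hdiag : H.mat x = Matrix.diagonal ![H.mat x 0 0, H.mat x 1 1] := by
    ext i j; fin_cases i <;> fin_cases j <;> simp [hc, he]
  have hpow : H.mat x ^ orderOf x = 1 := by rw [← H.mat_pow hxC, pow_orderOf_eq_one, H.mat_one]
  rw [hdiag, Matrix.diagonal_pow, Matrix.diagonal_eq_one] at hpow
  obtain ⟨k, hk⟩ := Frame.odd_orderOf F.odd_card_O hx
  have key : ∀ a : ZMod p, a * a = 1 → a ^ orderOf x = 1 → a = 1 := fun a h2 hn => by
    rwa [hk, pow_succ, pow_mul, pow_two, h2, one_pow, one_mul] at hn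
  have a1 := key (H.mat x 0 0) (by linear_combination h00 + (H.mat x 1 0) * hc) (congrFun hpow 0)
  have f1 := key (H.mat x 1 1) (by linear_combination h11 + (H.mat x 1 0) * hc) (congrFun hpow 1)
  exact hne (f1.trans a1.symm)

/-- An element of `O` fixed by `u` is diagonal. -/
theorem mat_fixed {w : G} (hw : w ∈ F.O) (hwu : F.u * w * F.u⁻¹ = w) :
    H.mat w 0 1 = 0 ∧ H.mat w 1 0 = 0 := by
  haveI : Fact p.Prime := ⟨H.hp⟩
  have h := H.mat_u (F.O_le hw)
  rw [hwu] at h
  have h01 := congrFun (congrFun h 0) 1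
  have h10 := congrFun (congrFun h 1) 0
  simp at h01 h10
  exact ⟨(mul_eq_zero.1 (show (2 : ZMod p) * H.mat w 0 1 = 0 by linear_combination h01)).resolve_left H.two_ne_zero',
    (mul_eq_zero.1 (show (2 : ZMod p) * H.mat w 1 0 = 0 by linear_combination h10)).resolve_left H.two_ne_zero'⟩

/-- An inverted element commutes with `z`. -/
theorem comm_z_of_inverted {x : G} (hx : x ∈ F.O) (hxu : F.u * x * F.u⁻¹ = x⁻¹) : Commute x z := by
  refine commute_of_conj_inverted (Frame.odd_orderOf F.odd_card_O hx) hxu H.zinv ?_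
  obtain ⟨i, hi⟩ := mem_zpowers_iff.1 (H.conj_z_mem (F.O_le hx))
  rw [← hi, ← conj_zpow, H.zinv, _root_.inv_zpow]

/-- An element acting as the identity matrix moves `Y` within its centre. -/
theorem conj_mem_zpowers {o v : G} (ho : o ∈ F.C) (h : H.mat o = 1) (hv : v ∈ Y) :
    o * v * o⁻¹ * v⁻¹ ∈ zpowers z := by
  refine H.co_eq_zero (mul_mem (H.mem_Y_conj ho hv) (inv_mem hv)) ?_
  rw [H.co_mul (H.mem_Y_conj ho hv) (inv_mem hv), ← H.mat_mulVec ho hv, h, Matrix.one_mulVec, H.co_inv hv,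
    add_neg_cancel]

/-- An element of order prime to `p` fixing `z` and acting as the identity matrix centralises `Y`. -/
theorem commute_of_mat_one {o v : G} (ho : o ∈ F.C) (hop : (orderOf o).Coprime p) (hoz : Commute o z)
    (h : H.mat o = 1) (hv : v ∈ Y) : Commute o v := by
  obtain ⟨k, hk⟩ := mem_powers_iff_mem_zpowers.2 (H.conj_mem_zpowers ho h hv)
  have e1 : o * v * o⁻¹ = z ^ k * v := by rw [eq_mul_inv_iff_mul_eq] at hk; exact hk.symm
  have hn : ∀ n : ℕ, o ^ n * v * (o ^ n)⁻¹ = z ^ (k * n) * v := by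
    intro n
    induction n with
    | zero => simp
    | succ n ih =>
      have aux : ∀ g g' c : G, g * g' * c * (g * g')⁻¹ = g * (g' * c * g'⁻¹) * g⁻¹ := fun g g' c => by group
      rw [pow_succ', aux, ih, ← conj_mul, e1, (hoz.pow_right _).eq, mul_inv_cancel_right, ← mul_assoc, ← pow_add,
        Nat.mul_succ]
  have h1 := hn (orderOf o)
  simp only [pow_orderOf_eq_one, one_mul, inv_one, mul_one] at h1
  have h2 : z ^ (k * orderOf o) = 1 := mul_eq_right.1 h1.symm
  have h3 : z ^ k = 1 := by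
    rw [← orderOf_dvd_iff_pow_eq_one, H.orderOf_z] at h2 ⊢
    exact (Nat.Coprime.dvd_of_dvd_mul_right hop.symm h2)
  rw [h3, one_mul] at e1
  exact mul_inv_eq_iff_eq_mul.1 e1

/-- The off-diagonal entries of an inverted `p'`-element moving `Y` do not vanish. -/
theorem offdiag_ne_zero {y : G} (hy : y ∈ F.O) (hyu : F.u * y * F.u⁻¹ = y⁻¹) (hyp : ¬ p ∣ orderOf y)
    (hmove : ∃ v ∈ Y, y * v ≠ v * y) : H.mat y 0 1 ≠ 0 ∧ H.mat y 1 0 ≠ 0 := by
  haveI : Fact p.Prime := ⟨H.hp⟩
  have hyC := F.O_le hy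
  obtain ⟨hfa, hdet⟩ := H.mat_inverted hy hyu
  by_contra h0
  have h01 : H.mat y 0 1 * H.mat y 1 0 = 0 := by
    rcases not_and_or.1 h0 with h | h <;> simp [not_not.1 h]
  set a := H.mat y 0 0
  set N : Matrix (Fin 2) (Fin 2) (ZMod p) := !![0, H.mat y 0 1; H.mat y 1 0, 0]
  have hM : H.mat y = a • 1 + N := by
    ext i j; fin_cases i <;> fin_cases j <;> simp [a, N, hfa]
  have hN : N * N = 0 := by
    ext i j
    fin_cases i <;> fin_cases j <;> simp [N, Matrix.mul_apply, Fin.sum_univ_two, h01]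
    exact (mul_eq_zero.1 h01).symm
  have hpow : ∀ n : ℕ, H.mat y ^ (n + 1) = a ^ (n + 1) • 1 + ((n + 1 : ℕ) * a ^ n) • N := by
    intro n
    induction n with
    | zero => simp [hM]
    | succ n ih =>
      rw [pow_succ, ih, hM]
      simp only [add_mul, mul_add, smul_mul_assoc, mul_smul_comm, one_mul, mul_one, hN, smul_zero, add_zero,
        smul_smul, smul_add]
      rw [add_assoc, ← add_smul]
      push_cast
      congr 2 <;> ring
  obtain ⟨k, hk⟩ := Frame.odd_orderOf F.odd_card_O hy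
  have h1 := hpow (2 * k)
  rw [← hk, ← H.mat_pow hyC, pow_orderOf_eq_one, H.mat_one] at h1
  have h00 := congrFun (congrFun h1 0) 0
  simp [N] at h00
  have ha : a = 1 := by
    have ha2 : a * a = 1 := by linear_combination hdet + h01
    rw [hk, pow_succ, pow_mul, pow_two, ha2, one_pow, one_mul] at h00
    exact h00.symm
  have hn0 : ((orderOf y : ℕ) : ZMod p) ≠ 0 := fun h => hyp ((ZMod.natCast_eq_zero_iff _ _).1 h)
  have hN0 : N = 0 := by
    rw [ha, one_pow, one_pow, one_smul, mul_one, left_eq_add, smul_eq_zero] at h1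
    exact h1.resolve_left hn0
  obtain ⟨v, hv, hne⟩ := hmove
  refine hne (H.commute_of_mat_one hyC ((Nat.Prime.coprime_iff_not_dvd H.hp).2 hyp).symm
    (H.comm_z_of_inverted hy hyu) ?_ hv).eq
  rw [hM, hN0, ha, one_smul, add_zero]

/-- An element of `Y` fixed by `u` is a power of `b`. -/
theorem fixed_eq {v : G} (hv : v ∈ Y) (hvu : F.u * v * F.u⁻¹ = v) : ∃ i : ℕ, v = b ^ i := by
  haveI : Fact p.Prime := ⟨H.hp⟩
  obtain ⟨i, j, k, rfl⟩ := H.span v hv
  refine ⟨i, ?_⟩
  have h := congrFun (H.co_u hv) 1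
  rw [hvu, H.co_nf] at h
  simp at h
  have hj : (j : ZMod p) = 0 :=
    (mul_eq_zero.1 (show (2 : ZMod p) * j = 0 by linear_combination h)).resolve_left H.two_ne_zero'
  obtain ⟨l, rfl⟩ := (ZMod.natCast_eq_zero_iff _ _).1 hj
  have hdl : d ^ (p * l) = 1 := by rw [pow_mul, H.exp d H.dY, one_pow]
  rw [hdl, mul_one] at hv hvu ⊢
  rw [← conj_mul, ← conj_pow, H.bfix, mul_right_inj] at hvu
  have hzi : F.u * z ^ k * F.u⁻¹ = (z ^ k)⁻¹ := by rw [← conj_pow, H.zinv, inv_pow]
  rw [Frame.eq_one_of_fixed_inverted (Frame.odd_orderOf F.odd_card_O (H.le (pow_mem H.zY k))) hvu hzi, mul_one]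

end Heis

end Cfsg.Lib.GW
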