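import Cfsg.Agent.FourGroupGW.Inverted.Kernel
import Cfsg.Agent.Chars.Inertia
import Cfsg.Agent.Chars.Construct
import Cfsg.Agent.Chars.Induced

/-!
# The character `θ` of `O` over a non-trivial linear character of `W`
-/

set_option autoImplicit false
set_option linter.unusedSectionVars false
set_option linter.style.haveILetI false

namespace Cfsg.Lib.GW

open Subgroup
open scoped ComplexConjugate
open Cfsg.Lib.Chars

universe u

variable {G : Type u} [Group G] [Finite G]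

namespace Inverted

variable {F : Frame G} {p : ℕ} {Y : Subgroup G} {b d z y : G} (D : Inverted F p Y b d z y)
include D

/-- `σ` centralises `W`. -/
theorem σ_comm_b (hm : Minimal G) (hloc : F.LocAt p Y) : F.σ * b * F.σ⁻¹ = b := by
  obtain ⟨S, -, -, hLS⟩ := hloc Y D.heis.le (fun v => ⟨1, Subtype.ext (by simpa using D.heis.exp v v.2)⟩)
    (F.U_le_C.trans D.heis.norm)
  obtain ⟨-, g, hgb, hgN, hgt⟩ := hLS.fusing_centralizer (zpowers b) (zpowers_le.2 D.heis.b_mem_W)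
    (IsPGroup.of_card (n := 1) (by rw [Nat.card_zpowers, D.heis.orderOf_b, pow_one]))
    (zpowers_ne_bot.2 D.heis.b1)
  obtain ⟨hc, -⟩ := F.fusing_element hm hgN hgt
  set c := F.σ⁻¹ * g
  have hcC : c ∈ F.O ⊔ F.U := F.C_eq hm ▸ F.mem_C.2 (F.mem_centralizer_U.1 hc).1
  obtain ⟨r, hr, o, ho, hro⟩ := (Cfsg.Lib.Coprime.mem_sup_of_le_normalizer' F.U_le_normalizer_O).1 hcC
  have hbU : ∀ x ∈ F.U, Commute x b := fun x hx =>
    mem_centralizer_iff.1 (F.W_le_centralizer_U D.heis.b_mem_W) x hx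
  have hoW : o ∈ F.W := by
    refine F.mem_W.2 ⟨ho, ?_⟩
    have h1 : Commute r⁻¹ F.u := (show Commute r F.u from F.U_comm hr F.u_mem_U).inv_left
    have h2 : Commute c F.u := (F.mem_centralizer_U.1 hc).2
    have h3 := h1.mul_left h2
    rwa [← hro, inv_mul_cancel_left] at h3
  have hob : Commute o b := by
    rw [D.W_eq] at hoW
    obtain ⟨i, rfl⟩ := mem_zpowers_iff.1 hoW
    exact (Commute.refl b).zpow_left i
  have hcb : c * b * c⁻¹ = b := by rw [← hro, ((hbU r hr).mul_left hob).eq, mul_inv_cancel_right]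
  calc F.σ * b * F.σ⁻¹ = F.σ * (c * b * c⁻¹) * F.σ⁻¹ := by rw [hcb]
    _ = g * b * g⁻¹ := by simp only [c]; group
    _ = b := mul_inv_eq_iff_eq_mul.2 (mem_centralizer_iff.1 hgb b (mem_zpowers b)).symm

theorem exists_theta_of :
    ∃ (θ : Cfsg.IrrCharacter F.O) (ψ : ↥F.W →* ℂˣ),
      (∀ a a' : F.O, F.u * (a : G) * F.u⁻¹ = a' → (θ : F.O → ℂ) a' = (θ : F.O → ℂ) a) ∧
      (∃ n : ℕ, Odd n ∧ ∑ᶠ a : F.W,
        (θ : F.O → ℂ) (Subgroup.inclusion inf_le_left a) * conj (ψ a : ℂ) = (n : ℂ) * Nat.card F.W) ∧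
      deg (θ : F.O → ℂ) = D.heis.ker.relIndex F.O ∧
      ∀ a a' : F.O, (a' : G) = z * a → (θ : F.O → ℂ) a' = (θ : F.O → ℂ) a := by
  classical
  haveI : Fact p.Prime := ⟨D.heis.hp⟩
  letI : Fintype F.O := Fintype.ofFinite _
  letI : Fintype F.W := Fintype.ofFinite _
  obtain ⟨ι, hι⟩ := exists_injective_linear (zpowers z)
  set lin : D.heis.ker →* ℂˣ := ι.comp (D.commHom d D.heis.dY)
  set K' := D.heis.ker.subgroupOf F.O with hK'
  haveI hK'n : K'.Normal := ⟨fun k hk o => D.heis.ker_normal D.W_eq o.2 hk⟩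
  letI : Fintype K' := Fintype.ofFinite _
  set l' : K' →* ℂˣ := lin.comp (subgroupOfEquivOfLe D.heis.ker_le).toMonoidHom
  set lam : K' → ℂ := fun k => (l' k : ℂ) with hlam
  have hlamI : Cfsg.IsIrrCharacter K' lam := isIrrCharacter_linear l'
  -- the extension by zero
  set E : G → ℂ := fun g => if h : g ∈ D.heis.ker then (lin ⟨g, h⟩ : ℂ) else 0 with hE
  have hEmem : ∀ (g : G) (h : g ∈ D.heis.ker), E g = (lin ⟨g, h⟩ : ℂ) := fun g h => dif_pos h
  have hext : ∀ o : F.O, Cfsg.extendByZero K' lam o = E (o : G) := by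
    intro o
    by_cases ho : o ∈ K'
    · rw [extendByZero_mem _ ho, hEmem _ (mem_subgroupOf.1 ho)]; rfl
    · rw [extendByZero_not_mem _ ho]; rw [hE]; simp only [dif_neg (show (o : G) ∉ D.heis.ker from ho)]
  -- values at `Y`
  have hnf : ∀ v ∈ Y, ∃ k : ℕ, (k : ZMod p) = co Y p b d z v 0 ∧
      v * d * v⁻¹ * d⁻¹ = z ^ k := by
    intro v hv
    obtain ⟨i, j, m, rfl⟩ := D.heis.span v hv
    exact ⟨i, by rw [D.heis.co_nf]; rfl, by rw [D.heis.nf_conj_d, mul_inv_cancel_right]⟩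
  have hlinY : ∀ (o : G) (ho : o ∈ F.O) (h : o * b * o⁻¹ ∈ D.heis.ker),
      lin ⟨o * b * o⁻¹, h⟩ = lin ⟨b, D.Y_le_ker D.heis.bY⟩ → o ∈ D.heis.ker := by
    intro o ho h heq
    have h1 : o * b * o⁻¹ * d * (o * b * o⁻¹)⁻¹ * d⁻¹ = b * d * b⁻¹ * d⁻¹ := congrArg Subtype.val (hι heq)
    obtain ⟨k, hk, hk'⟩ := hnf _ (D.heis.mem_Y_conj (F.O_le ho) D.heis.bY)
    rw [hk', D.heis.comm] at h1
    have h2 : (k : ZMod p) = 1 := by
      rw [← Nat.cast_one]
      exact D.heis.cast_eq (by rw [h1, pow_one])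
    refine ⟨ho, (D.heis.mat_eq_one_iff D.W_eq D.yO D.hc D.he ho).2 ?_⟩
    rw [← h2, hk]
    rfl
  set θ : F.O → ℂ := Cfsg.indFun K' lam with hθ
  have hirr : Cfsg.IsIrrCharacter F.O θ := by
    refine isIrrCharacter_of_norm_one (IsCharacter.indFun (isCharacter_of_irr hlamI)) ?_
    have h1 := classInner_indFun_eq_card K' hlamI hlamI
    have h2 : Nat.card {g : F.O // conjN K' g lam = lam} = Nat.card K' := by
      refine Nat.card_congr (Equiv.subtypeEquivRight fun g => ⟨fun hg => ?_, fun hg => ?_⟩)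
      · have hb' : (⟨b, D.heis.le D.heis.bY⟩ : F.O) ∈ K' := D.Y_le_ker D.heis.bY
        have h := congrFun hg ⟨_, hb'⟩
        exact hlinY g g.2 _ (Units.ext h)
      · exact conjN_of_mem (isClassFunction_irr ⟨lam, hlamI⟩) ⟨g, hg⟩
    rw [h2] at h1
    exact mul_left_cancel₀ (Nat.cast_ne_zero.2 Nat.card_pos.ne') (h1.trans (mul_one _).symm)
  have hval : ∀ o : F.O, θ o = (Nat.card K' : ℂ)⁻¹ * ∑ x : F.O, E ((x : G)⁻¹ * (o : G) * (x : G)) := by
    intro o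
    rw [hθ, indFun_apply]
    exact congrArg _ (Finset.sum_congr rfl fun x _ => hext _)
  -- `u`
  have huK : ∀ g ∈ D.heis.ker, F.u * g * F.u⁻¹ ∈ D.heis.ker := fun g hg => by
    have h := mul_mem (D.heis.u_conj_mul_mem D.W_eq hg.1) (inv_mem hg)
    rwa [mul_inv_cancel_right] at h
  have hEu : ∀ g : G, E (F.u * g * F.u⁻¹) = E g := by
    intro g
    by_cases hg : g ∈ D.heis.ker
    · rw [hEmem _ hg, hEmem _ (huK g hg)]
      refine congrArg (fun x : ℂˣ => (x : ℂ)) (congrArg ι (Subtype.ext ?_))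
      show F.u * g * F.u⁻¹ * d * (F.u * g * F.u⁻¹)⁻¹ * d⁻¹ = g * d * g⁻¹ * d⁻¹
      have ed : F.u⁻¹ * d * F.u = d⁻¹ := by
        calc F.u⁻¹ * d * F.u = (F.u⁻¹ * d⁻¹ * F.u)⁻¹ := by group
          _ = (F.u⁻¹ * (F.u * d * F.u⁻¹) * F.u)⁻¹ := by rw [D.heis.dinv]
          _ = d⁻¹ := by group
      obtain ⟨k, hk⟩ := mem_powers_iff_mem_zpowers.2 (D.comm_mem_zpowers hg D.heis.dY)
      have hk' : g * d * g⁻¹ * d⁻¹ = z ^ k := hk.symm
      calc F.u * g * F.u⁻¹ * d * (F.u * g * F.u⁻¹)⁻¹ * d⁻¹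
          = F.u * (g * (F.u⁻¹ * d * F.u) * g⁻¹ * (F.u⁻¹ * d * F.u)⁻¹) * F.u⁻¹ := by group
        _ = F.u * (d⁻¹ * (g * d * g⁻¹ * d⁻¹)⁻¹ * d) * F.u⁻¹ := by rw [ed]; group
        _ = F.u * (z ^ k)⁻¹ * F.u⁻¹ := by
          rw [hk', mul_assoc d⁻¹, ((D.heis.z_pow_comm k D.heis.dY).inv_left).eq, inv_mul_cancel_left]
        _ = _ := by rw [← conj_inv, ← conj_pow, D.heis.zinv, inv_pow, inv_inv, hk']
    · have hg' : F.u * g * F.u⁻¹ ∉ D.heis.ker := fun h => hg (by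
        have h' := huK _ h
        rwa [show F.u * (F.u * g * F.u⁻¹) * F.u⁻¹ = (F.u * F.u) * g * (F.u * F.u)⁻¹ by group, F.u_sq,
          one_mul, inv_one, mul_one] at h')
      rw [hE]; simp only [dif_neg hg, dif_neg hg']
  -- `z`
  have hzK : z ∈ D.heis.ker := D.centre_le_ker D.z_mem_centre
  have hlinz : lin ⟨z, hzK⟩ = 1 := by
    show ι _ = 1
    rw [← map_one ι]
    refine congrArg ι (Subtype.ext ?_)
    show z * d * z⁻¹ * d⁻¹ = 1
    rw [(D.heis.zc d D.heis.dY).eq, mul_inv_cancel_right, mul_inv_cancel]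
  have hEz : ∀ g : G, E (z * g) = E g := by
    intro g
    by_cases hg : g ∈ D.heis.ker
    · rw [hEmem _ hg, hEmem _ (mul_mem hzK hg),
        show (⟨z * g, mul_mem hzK hg⟩ : D.heis.ker) = ⟨z, hzK⟩ * ⟨g, hg⟩ from rfl, map_mul, hlinz, one_mul]
    · have hg' : z * g ∉ D.heis.ker := fun h => hg (by simpa using mul_mem (inv_mem hzK) h)
      rw [hE]; simp only [dif_neg hg, dif_neg hg']
  have hWK : F.W ≤ D.heis.ker := D.W_eq ▸ zpowers_le.2 (D.Y_le_ker D.heis.bY)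
  refine ⟨⟨θ, hirr⟩, lin.comp (inclusion hWK), ?_, ⟨1, odd_one, ?_⟩, ?_, ?_⟩
  · intro a a' h
    show θ a' = θ a
    rw [hval, hval]
    congr 1
    have hui : ∀ x : F.O, F.u * (x : G) * F.u⁻¹ ∈ F.O := fun x =>
      conj_mem_of_le F.U_le_normalizer_O F.u_mem_U x.2
    have hinv : Function.Involutive fun x : F.O => (⟨F.u * (x : G) * F.u⁻¹, hui x⟩ : F.O) := fun x =>
      Subtype.ext (by
        show F.u * (F.u * (x : G) * F.u⁻¹) * F.u⁻¹ = x
        rw [show F.u * (F.u * (x : G) * F.u⁻¹) * F.u⁻¹ = (F.u * F.u) * x * (F.u * F.u)⁻¹ by group, F.u_sq,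
          one_mul, inv_one, mul_one])
    refine Fintype.sum_equiv hinv.toPerm _ _ fun x => ?_
    show E _ = E ((F.u * (x : G) * F.u⁻¹)⁻¹ * (a : G) * (F.u * (x : G) * F.u⁻¹))
    rw [← hEu ((F.u * (x : G) * F.u⁻¹)⁻¹ * (a : G) * (F.u * (x : G) * F.u⁻¹)), ← h]
    congr 1
    rw [F.u_inv]
    simp only [_root_.mul_inv_rev, F.u_inv]
    rw [show F.u * (F.u * ((x : G)⁻¹ * F.u) * (a : G) * (F.u * (x : G) * F.u)) * F.u
      = (F.u * F.u) * ((x : G)⁻¹ * (F.u * (a : G) * F.u) * (x : G)) * (F.u * F.u) by group, F.u_sq, one_mul, mul_one]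
  · rw [finsum_eq_sum_of_fintype, Nat.cast_one, one_mul]
    set ψ := lin.comp (inclusion hWK) with hψ
    let f : F.O → (F.W →* ℂˣ) := fun x =>
      (lin.comp
        ((MonoidHom.codRestrict ((MulAut.conj ((x : G)⁻¹)).toMonoidHom.comp F.W.subtype) D.heis.ker fun a => by
          simpa using D.heis.ker_normal D.W_eq (inv_mem x.2) (hWK a.2)))) * ψ⁻¹
    have hterm : ∀ a : F.W, θ (inclusion inf_le_left a) * conj (ψ a : ℂ) =
        (Nat.card K' : ℂ)⁻¹ * ∑ x : F.O, ((f x a : ℂˣ) : ℂ) := by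
      intro a
      rw [hval, mul_assoc, Finset.sum_mul]
      congr 1
      refine Finset.sum_congr rfl fun x _ => ?_
      have hm' : (x : G)⁻¹ * (a : G) * (x : G) ∈ D.heis.ker := by
        simpa using D.heis.ker_normal D.W_eq (inv_mem x.2) (hWK a.2)
      have hc' : conj (ψ a : ℂ) = (((ψ a)⁻¹ : ℂˣ) : ℂ) := by
        rw [← map_inv]
        exact (IsCharacter.conj_inv (isCharacter_linear ψ) a).symm
      rw [show E ((x : G)⁻¹ * ((inclusion inf_le_left a : F.O) : G) * (x : G)) = E ((x : G)⁻¹ * (a : G) * (x : G))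
        from rfl, hEmem _ hm', hc', ← Units.val_mul]
      congr 2
      show lin _ = lin _
      congr 1
      exact Subtype.ext (by simp)
    rw [Finset.sum_congr rfl fun a _ => hterm a, ← Finset.mul_sum, Finset.sum_comm]
    have hsum : ∀ x : F.O, ∑ a : F.W, ((f x a : ℂˣ) : ℂ) = if (x : G) ∈ D.heis.ker then (Nat.card F.W : ℂ) else 0 := by
      intro x
      have h0 := sum_hom_units ((Units.coeHom ℂ).comp (f x))
      rw [Fintype.card_eq_nat_card] at h0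
      rw [show ∑ a : F.W, ((f x a : ℂˣ) : ℂ) = ∑ a : F.W, ((Units.coeHom ℂ).comp (f x)) a from rfl, h0]
      by_cases hx : (x : G) ∈ D.heis.ker
      · rw [if_pos hx, if_pos]
        ext a
        show ((lin _ * (ψ a)⁻¹ : ℂˣ) : ℂ) = 1
        have hxa : lin ⟨(x : G)⁻¹ * (a : G) * (x : G), mul_mem (mul_mem (inv_mem hx) (hWK a.2)) hx⟩ = ψ a := by
          rw [show (⟨(x : G)⁻¹ * (a : G) * (x : G), mul_mem (mul_mem (inv_mem hx) (hWK a.2)) hx⟩ : D.heis.ker) =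
            ⟨x, hx⟩⁻¹ * inclusion hWK a * ⟨x, hx⟩ from rfl, map_mul, map_mul, map_inv, mul_comm _ (lin ⟨x, hx⟩),
            mul_inv_cancel_left]
          rfl
        have e : lin (MonoidHom.codRestrict ((MulAut.conj ((x : G)⁻¹)).toMonoidHom.comp F.W.subtype) D.heis.ker
            (fun a => by simpa using D.heis.ker_normal D.W_eq (inv_mem x.2) (hWK a.2)) a) = ψ a := by
          rw [← hxa]; congr 1; exact Subtype.ext (by simp)
        rw [e, mul_inv_cancel, Units.val_one]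
      · rw [if_neg hx, if_neg, Nat.cast_zero]
        intro h
        have hb := DFunLike.congr_fun h ⟨b, D.heis.b_mem_W⟩
        have hb' : f x ⟨b, D.heis.b_mem_W⟩ = 1 := Units.ext hb
        have hm' : (x : G)⁻¹ * b * (x : G)⁻¹⁻¹ ∈ D.heis.ker :=
          D.heis.ker_normal D.W_eq (inv_mem x.2) (D.Y_le_ker D.heis.bY)
        have h2 : lin _ = ψ ⟨b, D.heis.b_mem_W⟩ := mul_inv_eq_one.1 hb'
        have h3 := inv_mem (hlinY _ (inv_mem x.2) hm' ((Eq.trans (congrArg lin (Subtype.ext rfl)) h2).trans rfl))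
        rw [inv_inv] at h3
        exact hx h3
    rw [Finset.sum_congr rfl fun x _ => hsum x, ← Finset.sum_filter, Finset.sum_const, nsmul_eq_mul,
      ← Fintype.card_subtype, ← Nat.card_eq_fintype_card,
      show Nat.card {x : F.O // (x : G) ∈ D.heis.ker} = Nat.card K' from rfl, ← mul_assoc,
      inv_mul_cancel₀ (Nat.cast_ne_zero.2 Nat.card_pos.ne'), one_mul]
  · apply Nat.cast_injective (R := ℂ)
    rw [← IsCharacter.apply_one_eq_deg (isCharacter_of_irr hirr)]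
    show θ 1 = _
    rw [hθ, indFun_one, hlam]
    simp [hK', relIndex]
  · intro a a' h
    show θ a' = θ a
    rw [hval, hval]
    congr 1
    refine Finset.sum_congr rfl fun x _ => ?_
    rw [h, show (x : G)⁻¹ * (z * (a : G)) * (x : G) = ((x : G)⁻¹ * z * (x : G)) * ((x : G)⁻¹ * a * x) by group,
      show (x : G)⁻¹ * z * (x : G) = z by rw [mul_assoc, ← (D.comm_z x.2).eq, inv_mul_cancel_left], hEz]

theorem exists_theta (hm : Minimal G) (hloc : F.LocAt p Y) :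
    ∃ (θ : Cfsg.IrrCharacter F.O) (ψ : ↥F.W →* ℂˣ),
      (∀ a a' : F.O, F.u * (a : G) * F.u⁻¹ = a' → (θ : F.O → ℂ) a' = (θ : F.O → ℂ) a) ∧
      (∀ a a' : F.W, F.σ * (a : G) * F.σ⁻¹ = a' → ψ a' = ψ a) ∧
      (∃ n : ℕ, Odd n ∧ ∑ᶠ a : F.W,
        (θ : F.O → ℂ) (Subgroup.inclusion inf_le_left a) * conj (ψ a : ℂ) = (n : ℂ) * Nat.card F.W) ∧
      deg (θ : F.O → ℂ) = D.heis.ker.relIndex F.O ∧
      ∀ a a' : F.O, (a' : G) = z * a → (θ : F.O → ℂ) a' = (θ : F.O → ℂ) a := by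
  obtain ⟨θ, ψ, h1, h2, h3, h4⟩ := D.exists_theta_of
  refine ⟨θ, ψ, h1, fun a a' h => ?_, h2, h3, h4⟩
  obtain ⟨i, hi⟩ := mem_zpowers_iff.1 (D.W_eq ▸ a.2 : (a : G) ∈ zpowers b)
  rw [show a' = a from Subtype.ext (by rw [← h, ← hi, ← conj_zpow, D.σ_comm_b hm hloc])]

end Inverted

end Cfsg.Lib.GW
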