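import Cfsg.Agent.FourGroupGW.Coprime

/-!
# Elementary facts about elements inverted by an involution
-/

set_option autoImplicit false
set_option linter.unusedSectionVars false

namespace Cfsg.Lib.GW

open Subgroup

universe u

variable {G : Type u} [Group G] [Finite G]

theorem conj_mem_of_le {H N : Subgroup G} (h : H ≤ normalizer (N : Set G)) {g x : G} (hg : g ∈ H)
    (hx : x ∈ N) : g * x * g⁻¹ ∈ N := (mem_normalizer_iff.1 (h hg) x).1 hx

/-- An element of odd order commutes with what its square commutes with. -/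
theorem commute_of_sq {x y : G} (hx : Odd (orderOf x)) (h : Commute (x * x) y) : Commute x y := by
  obtain ⟨k, hk⟩ := hx
  have e : (x * x) ^ (k + 1) = x := by
    rw [← pow_two, ← pow_mul, show 2 * (k + 1) = orderOf x + 1 by omega, pow_succ, pow_orderOf_eq_one,
      one_mul]
  have := h.pow_left (k + 1)
  rwa [e] at this

/-- An element of odd order inverted by `s` commutes with an element inverted by `s` whose conjugate is
inverted as well. -/
theorem commute_of_conj_inverted {s x v : G} (hxo : Odd (orderOf x)) (hx : s * x * s⁻¹ = x⁻¹)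
    (hv : s * v * s⁻¹ = v⁻¹) (hxv : s * (x * v * x⁻¹) * s⁻¹ = (x * v * x⁻¹)⁻¹) : Commute x v := by
  refine commute_of_sq hxo ?_
  rw [← conj_mul, ← conj_mul, ← conj_inv, hx, hv, inv_inv,
    show (x * v * x⁻¹)⁻¹ = x * v⁻¹ * x⁻¹ by group] at hxv
  have h2 : x⁻¹ * v * x = x * v * x⁻¹ := by
    have := congrArg (fun w => w⁻¹) hxv
    simpa [mul_assoc] using this
  show x * x * v = v * (x * x)
  calc x * x * v = x * (x * v * x⁻¹) * x := by group
    _ = x * (x⁻¹ * v * x) * x := by rw [h2]
    _ = v * (x * x) := by group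

theorem mem_center_of_comm {s a c : G} (ha : s * a * s⁻¹ = a) (hc : s * c * s⁻¹ = c) :
    s * (a * c * a⁻¹ * c⁻¹) * s⁻¹ = a * c * a⁻¹ * c⁻¹ := by
  rw [← conj_mul, ← conj_mul, ← conj_mul, ← conj_inv, ← conj_inv, ha, hc]

/-- Two elements of order `p` of a cyclic group generate the same subgroup. -/
theorem mem_zpowers_of_mem_cyclic {p : ℕ} (hp : p.Prime) {g a b : G} (ha : a ∈ zpowers g)
    (hb : b ∈ zpowers g) (hap : a ^ p = 1) (hbp : b ^ p = 1) (ha1 : a ≠ 1) : b ∈ zpowers a := by
  haveI : Fact p.Prime := ⟨hp⟩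
  have hoa : orderOf a = p := orderOf_eq_prime hap ha1
  classical
  haveI : Fintype (zpowers g) := Fintype.ofFinite _
  set a' : zpowers g := ⟨a, ha⟩
  set b' : zpowers g := ⟨b, hb⟩
  have hle := IsCyclic.card_pow_eq_one_le (α := zpowers g) hp.pos
  set S : Finset (zpowers g) := {x | x ^ p = 1}
  set Z : Finset (zpowers g) := Finset.univ.filter (fun x => x ∈ zpowers a')
  have hZS : Z ⊆ S := fun x hx => by
    obtain ⟨i, rfl⟩ := mem_zpowers_iff.1 (Finset.mem_filter.1 hx).2
    refine Finset.mem_filter.2 ⟨Finset.mem_univ _, ?_⟩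
    rw [← zpow_natCast, ← zpow_mul, mul_comm, zpow_mul, zpow_natCast,
      show a' ^ p = 1 from Subtype.ext (by simpa [a'] using hap), one_zpow]
  have hZc : Z.card = p := by
    rw [← Fintype.card_subtype, ← Nat.card_eq_fintype_card, Nat.card_zpowers, Subgroup.orderOf_mk, hoa]
  have hbS : b' ∈ Z := by
    rw [Finset.eq_of_subset_of_card_le hZS (hle.trans hZc.ge)]
    exact Finset.mem_filter.2 ⟨Finset.mem_univ _, Subtype.ext (by simpa [b'] using hbp)⟩
  obtain ⟨i, hi⟩ := mem_zpowers_iff.1 (Finset.mem_filter.1 hbS).2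
  exact mem_zpowers_iff.2 ⟨i, congrArg Subtype.val hi⟩

end Cfsg.Lib.GW
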